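import Groth.Agent.ZeroAcyclic.Constructible.BCFormal

/-!
Base change in degree zero of direct images along integral morphisms.
-/

set_option autoImplicit false
set_option backward.isDefEq.respectTransparency.types false
set_option linter.style.haveILetI false

universe u

open CategoryTheory CategoryTheory.Limits AlgebraicGeometry Opposite

namespace Groth.ZeroAcyclic.BCFormal

open Groth.EtaleBase (bcSq bcSq_fst)
open Groth.DescentBase (baseChange0_unit pushComp_hom_app)

variable {X Y X' Y' Z Z' : Scheme.{u}} (f : X ⟶ Y) (g : Y' ⟶ Y) (f' : X' ⟶ Y') (h : X' ⟶ X)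
  (w : h ≫ f = f' ≫ g) (p : Z ⟶ X) (p' : Z' ⟶ X') (k : Z' ⟶ Z) (w' : k ≫ p = p' ≫ h)

include w w' in
/-- The composite of the two squares. -/
theorem pasteW : k ≫ p ≫ f = (p' ≫ f') ≫ g := by
  rw [reassoc_of% w', w, Category.assoc]

/-- The comparison of étale schemes over the two squares and over their composite. -/
theorem bcSq_paste (V : Y.Etale) :
    (MorphismProperty.Over.pullbackComp (P := EtCoh.etaleMP) (Q := ⊤) p' f').hom.app ((EtCoh.bc g).obj V) ≫
        (EtCoh.bc p').map (bcSq f g f' h w V) ≫ bcSq p h p' k w' ((EtCoh.bc f).obj V) =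
      bcSq (p ≫ f) g (p' ≫ f') k (pasteW f g f' h w p p' k w') V ≫
        (EtCoh.bc k).map ((MorphismProperty.Over.pullbackComp (P := EtCoh.etaleMP) (Q := ⊤) p f).hom.app V) := by
  let W := (EtCoh.bc f).obj V
  let W' := (EtCoh.bc g).obj V
  let a := pullback.snd V.hom f
  let b := pullback.snd V.hom g
  let e' : pullback b (p' ≫ f') ⟶ pullback (pullback.snd b f') p' :=
    ((MorphismProperty.Over.pullbackComp (P := EtCoh.etaleMP) (Q := ⊤) p' f').hom.app W').left
  let μ : pullback b f' ⟶ pullback a h := (bcSq f g f' h w V).left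
  let m' : pullback (pullback.snd b f') p' ⟶ pullback (pullback.snd a h) p' :=
    ((EtCoh.bc p').map (bcSq f g f' h w V)).left
  let β : pullback (pullback.snd a h) p' ⟶ pullback (pullback.snd a p) k := (bcSq p h p' k w' W).left
  let β' : pullback b (p' ≫ f') ⟶ pullback (pullback.snd V.hom (p ≫ f)) k :=
    (bcSq (p ≫ f) g (p' ≫ f') k (pasteW f g f' h w p p' k w') V).left
  let γ : pullback V.hom (p ≫ f) ⟶ pullback a p :=
    ((MorphismProperty.Over.pullbackComp (P := EtCoh.etaleMP) (Q := ⊤) p f).hom.app V).left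
  let e : pullback (pullback.snd V.hom (p ≫ f)) k ⟶ pullback (pullback.snd a p) k := ((EtCoh.bc k).map
    ((MorphismProperty.Over.pullbackComp (P := EtCoh.etaleMP) (Q := ⊤) p f).hom.app V)).left
  apply MorphismProperty.Over.Hom.ext
  show (e' ≫ m' ≫ β) = (β' ≫ e : pullback b (p' ≫ f') ⟶ pullback (pullback.snd a p) k)
  have hB : (e' ≫ m' ≫ β) ≫ pullback.snd (pullback.snd a p) k =
      (β' ≫ e) ≫ pullback.snd (pullback.snd a p) k := by
    have h₁ := MorphismProperty.Over.w
      ((MorphismProperty.Over.pullbackComp (P := EtCoh.etaleMP) (Q := ⊤) p' f').hom.app W' ≫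
        (EtCoh.bc p').map (bcSq f g f' h w V) ≫ bcSq p h p' k w' W)
    have h₂ := MorphismProperty.Over.w (bcSq (p ≫ f) g (p' ≫ f') k (pasteW f g f' h w p p' k w') V ≫
      (EtCoh.bc k).map ((MorphismProperty.Over.pullbackComp (P := EtCoh.etaleMP) (Q := ⊤) p f).hom.app V))
    exact h₁.trans h₂.symm
  have hA2 : ((e' ≫ m' ≫ β) ≫ pullback.fst (pullback.snd a p) k) ≫ pullback.snd a p =
      ((β' ≫ e) ≫ pullback.fst (pullback.snd a p) k) ≫ pullback.snd a p := by
    simp only [Category.assoc] at hB ⊢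
    rw [pullback.condition]
    simp only [reassoc_of% hB]
  have k₁ : β ≫ pullback.fst (pullback.snd a p) k ≫ pullback.fst a p =
      pullback.fst (pullback.snd a h) p' ≫ pullback.fst a h := bcSq_fst p h p' k w' W
  have k₂ : m' ≫ pullback.fst (pullback.snd a h) p' = pullback.fst (pullback.snd b f') p' ≫ μ :=
    pullback.lift_fst _ _ _
  have k₃ : μ ≫ pullback.fst a h ≫ pullback.fst V.hom f = pullback.fst b f' ≫ pullback.fst V.hom g :=
    bcSq_fst f g f' h w V
  have k₄ : e' ≫ pullback.fst (pullback.snd b f') p' ≫ pullback.fst b f' = pullback.fst b (p' ≫ f') :=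
    MorphismProperty.Over.pullbackComp_left_fst_fst (P := EtCoh.etaleMP) (Q := ⊤) p' f' W'
  have k₅ : e ≫ pullback.fst (pullback.snd a p) k = pullback.fst (pullback.snd V.hom (p ≫ f)) k ≫ γ :=
    pullback.lift_fst _ _ _
  have k₆ : γ ≫ pullback.fst a p ≫ pullback.fst V.hom f = pullback.fst V.hom (p ≫ f) :=
    MorphismProperty.Over.pullbackComp_left_fst_fst (P := EtCoh.etaleMP) (Q := ⊤) p f V
  have k₇ : β' ≫ pullback.fst (pullback.snd V.hom (p ≫ f)) k ≫ pullback.fst V.hom (p ≫ f) =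
      pullback.fst b (p' ≫ f') ≫ pullback.fst V.hom g :=
    bcSq_fst (p ≫ f) g (p' ≫ f') k _ V
  refine pullback.hom_ext ?_ hB
  refine pullback.hom_ext ?_ hA2
  refine pullback.hom_ext (f := V.hom) (g := f) ?_ ?_
  · simp only [Category.assoc]
    rw [reassoc_of% k₁, reassoc_of% k₂, k₃, reassoc_of% k₄, reassoc_of% k₅, k₆, k₇]
  · have h3 := congrArg (· ≫ p) hA2
    simp only [Category.assoc] at h3 ⊢
    rw [← pullback.condition] at h3
    exact h3

omit f g f' h w p p' k w' in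
/-- Successive restrictions. -/
theorem map_op_map (G : EtDesc.Sh X) {A B D : X.Etale} (a : A ⟶ B) (b : B ⟶ D) (u : G.obj.obj (op D)) :
    G.obj.map a.op (G.obj.map b.op u) = G.obj.map (a ≫ b).op u := by
  rw [op_comp, Functor.map_comp, ConcreteCategory.comp_apply]

/-- The base change morphism of a composite. -/
theorem baseChange0Sh_paste (C : EtDesc.Sh Z) :
    (EtDesc.pullSh g).map ((EtDesc.pushCompSh f p).hom.app C) ≫
        EtBC.baseChange0Sh (p ≫ f) g (p' ≫ f') k (pasteW f g f' h w p p' k w') C =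
      EtBC.baseChange0Sh f g f' h w ((EtDesc.pushSh p).obj C) ≫
        (EtDesc.pushSh f').map (EtBC.baseChange0Sh p h p' k w' C) ≫
        (EtDesc.pushCompSh f' p').hom.app _ := by
  apply ((EtDesc.adjSh g).homEquiv _ _).injective
  rw [Adjunction.homEquiv_unit, Adjunction.homEquiv_unit]
  apply (sheafToPresheaf _ _).map_injective
  ext V σ
  obtain ⟨V⟩ := V
  show (EtBC.baseChange0Sh (p ≫ f) g (p' ≫ f') k _ C).hom.app (op ((EtCoh.bc g).obj V))
      (((EtDesc.pullSh g).map ((EtDesc.pushCompSh f p).hom.app C)).hom.app (op ((EtCoh.bc g).obj V))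
        (((EtDesc.adjSh g).unit.app _).hom.app (op V) σ)) =
    ((EtDesc.pushCompSh f' p').hom.app ((EtDesc.pullSh k).obj C)).hom.app (op ((EtCoh.bc g).obj V))
      ((EtBC.baseChange0Sh p h p' k w' C).hom.app (op ((EtCoh.bc f').obj ((EtCoh.bc g).obj V)))
        ((EtBC.baseChange0Sh f g f' h w ((EtDesc.pushSh p).obj C)).hom.app (op ((EtCoh.bc g).obj V))
          (((EtDesc.adjSh g).unit.app _).hom.app (op V) σ)))
  have hn0 : (EtDesc.pushCompSh f p).hom.app C ≫ (EtDesc.adjSh g).unit.app _ =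
      (EtDesc.adjSh g).unit.app _ ≫
        (EtDesc.pushSh g).map ((EtDesc.pullSh g).map ((EtDesc.pushCompSh f p).hom.app C)) :=
    (EtDesc.adjSh g).unit.naturality ((EtDesc.pushCompSh f p).hom.app C)
  have hn := ConcreteCategory.congr_hom (congrArg
    (fun ν : (EtDesc.pushSh f).obj ((EtDesc.pushSh p).obj C) ⟶ _ => ν.hom.app (op V)) hn0) σ
  refine (congrArg ((EtBC.baseChange0Sh (p ≫ f) g (p' ≫ f') k _ C).hom.app (op ((EtCoh.bc g).obj V))) hn.symm).trans ?_
  refine (baseChange0_unit (p ≫ f) g (p' ≫ f') k _ C V _).trans ?_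
  rw [baseChange0_unit f g f' h w ((EtDesc.pushSh p).obj C) V σ]
  let e := (MorphismProperty.Over.pullbackComp (P := EtCoh.etaleMP) (Q := ⊤) p f).hom.app V
  let e' := (MorphismProperty.Over.pullbackComp (P := EtCoh.etaleMP) (Q := ⊤) p' f').hom.app ((EtCoh.bc g).obj V)
  have hσ : ((EtDesc.pushCompSh f p).hom.app C).hom.app (op V) σ = C.obj.map e.op σ :=
    ConcreteCategory.congr_hom (pushComp_hom_app f p C V) σ
  let τ : C.obj.obj (op ((EtCoh.bc p).obj ((EtCoh.bc f).obj V))) := σ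
  let G := (EtDesc.pullSh k).obj C
  let u := ((EtDesc.adjSh k).unit.app C).hom.app (op ((EtCoh.bc p).obj ((EtCoh.bc f).obj V))) τ
  have hL : ((EtDesc.adjSh k).unit.app C).hom.app (op ((EtCoh.bc (p ≫ f)).obj V))
      (((EtDesc.pushCompSh f p).hom.app C).hom.app (op V) σ) = G.obj.map ((EtCoh.bc k).map e).op u := by
    rw [hσ]
    exact NatTrans.naturality_apply ((EtDesc.adjSh k).unit.app C).hom e.op τ
  refine (congrArg (G.obj.map (bcSq (p ≫ f) g (p' ≫ f') k _ V).op) hL).trans ?_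
  let a := ((EtDesc.adjSh h).unit.app ((EtDesc.pushSh p).obj C)).hom.app (op ((EtCoh.bc f).obj V)) σ
  have hR : (EtBC.baseChange0Sh p h p' k w' C).hom.app (op ((EtCoh.bc f').obj ((EtCoh.bc g).obj V)))
      (((EtDesc.pullSh h).obj ((EtDesc.pushSh p).obj C)).obj.map (bcSq f g f' h w V).op a) =
      G.obj.map ((EtCoh.bc p').map (bcSq f g f' h w V)).op
        (G.obj.map (bcSq p h p' k w' ((EtCoh.bc f).obj V)).op u) :=
    (NatTrans.naturality_apply (EtBC.baseChange0Sh p h p' k w' C).hom (bcSq f g f' h w V).op a).trans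
      (congrArg (G.obj.map ((EtCoh.bc p').map (bcSq f g f' h w V)).op)
        (baseChange0_unit p h p' k w' C ((EtCoh.bc f).obj V) τ))
  refine Eq.trans ?_ (congrArg (((EtDesc.pushCompSh f' p').hom.app G).hom.app (op ((EtCoh.bc g).obj V))) hR).symm
  refine Eq.trans ?_ (ConcreteCategory.congr_hom (pushComp_hom_app f' p' G ((EtCoh.bc g).obj V)) _).symm
  show G.obj.map (bcSq (p ≫ f) g (p' ≫ f') k _ V).op (G.obj.map ((EtCoh.bc k).map e).op u) =
    G.obj.map e'.op (G.obj.map ((EtCoh.bc p').map (bcSq f g f' h w V)).op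
      (G.obj.map (bcSq p h p' k w' ((EtCoh.bc f).obj V)).op u))
  refine (map_op_map G _ _ u).trans (Eq.trans ?_ ((congrArg (G.obj.map e'.op) (map_op_map G _ _ u)).trans
    (map_op_map G _ _ u)).symm)
  exact congrArg (fun m => G.obj.map (Quiver.Hom.op m) u) (bcSq_paste f g f' h w p p' k w' V).symm

variable {S : Scheme.{u}} {q : Y ⟶ S}

/-- Cohomological propriety of a direct image along an integral morphism. -/
theorem isCohPropSet_push [IsIntegralHom p] (C : EtDesc.Sh Z) (hC : CohProp.IsCohPropSet q (p ≫ f) C) :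
    CohProp.IsCohPropSet q f ((EtDesc.pushSh p).obj C) := by
  intro S₁ Y₁ X₁ π γ q₁ η φ hgp sq
  let p₁ : pullback p η ⟶ X₁ := pullback.snd p η
  let k₁ : pullback p η ⟶ Z := pullback.fst p η
  have s₁ : IsPullback k₁ p₁ p η := IsPullback.of_hasPullback p η
  haveI : IsIntegralHom p₁ := MorphismProperty.pullback_snd (P := @IsIntegralHom) _ _ ‹_›
  haveI h₂ : IsIso (EtBC.baseChange0Sh (p ≫ f) γ (p₁ ≫ φ) k₁ (pasteW f γ φ η sq.w p p₁ k₁ s₁.w) C) :=
    hC π γ q₁ k₁ (p₁ ≫ φ) hgp (s₁.paste_vert sq)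
  haveI h₁ : IsIso (EtBC.baseChange0Sh p η p₁ k₁ s₁.w C) :=
    Groth.DescentBase.isIso_baseChange0Sh p η p₁ k₁ s₁ C
  have e := baseChange0Sh_paste f γ φ η sq.w p p₁ k₁ s₁.w C
  haveI : IsIso (EtBC.baseChange0Sh f γ φ η sq.w ((EtDesc.pushSh p).obj C) ≫
      (EtDesc.pushSh φ).map (EtBC.baseChange0Sh p η p₁ k₁ s₁.w C) ≫
      (EtDesc.pushCompSh φ p₁).hom.app _) := e ▸ inferInstance
  exact IsIso.of_isIso_comp_right (EtBC.baseChange0Sh f γ φ η sq.w ((EtDesc.pushSh p).obj C))
    ((EtDesc.pushSh φ).map (EtBC.baseChange0Sh p η p₁ k₁ s₁.w C) ≫ (EtDesc.pushCompSh φ p₁).hom.app _)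

end Groth.ZeroAcyclic.BCFormal
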