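import Groth.Agent.ZeroAcyclic.Constructible.Embed
import Groth.Agent.ZeroAcyclic.Constructible.BCPush
import Groth.Agent.ZeroAcyclic.Proper.Main

/-!
Generic cohomological propriety in degree zero of constructible sheaves of sets.
-/

set_option autoImplicit false
set_option backward.isDefEq.respectTransparency.types false
set_option linter.style.haveILetI false

universe u

open CategoryTheory CategoryTheory.Limits AlgebraicGeometry Opposite

namespace Groth.ZeroAcyclic.Constructible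

open Groth.ZeroAcyclic.Free Groth.ZeroAcyclic.BCFormal
open Groth.EtaleShriek.BCForget (U0 toAbStalk toAbStalk_germ toAbStalk_bijective)
open Groth.EtaleShriek.BCSets (sg)

variable {X Y Z S : Scheme.{u}}

/-- The underlying sheaf of a finite constant sheaf has a finite basis of global sections. -/
theorem exists_constBasis (Z : Scheme.{u}) (M : Type) [AddCommGroup M] [Finite M] :
    ∃ (ι : Type u) (_ : Finite ι) (c : ι → (U0 (EtCoh.const Z M)).obj.obj (op (EtCoh.top Z))),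
      ConstBasis (U0 (EtCoh.const Z M)) c := by
  let η := (CategoryTheory.toSheafify Z.smallEtaleTopology
    ((Functor.const Z.Etaleᵒᵖ).obj (AddCommGrpCat.of (ULift.{u + 1} M)))).app (op (EtCoh.top Z))
  refine ⟨ULift.{u} M, inferInstance, fun a => η (ULift.up a.down), fun K _ _ ξ => ?_⟩
  refine (Function.Bijective.of_comp_iff' (toAbStalk_bijective ξ (EtCoh.const Z M)) _).1 ?_
  let t : (Scheme.pointSmallEtale ξ).fiber.obj (EtCoh.top Z) := Over.homMk ξ (Category.comp_id _)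
  have hb := (Groth.EtaleBase.LocConst.exists_stalkBij_const (EtCoh.top Z) (ULift.{u + 1} M) K _ _ ξ t).comp
    ((Equiv.ulift.{u}.trans Equiv.ulift.{u + 1}.symm : ULift.{u} M ≃ ULift.{u + 1} M)).bijective
  refine (congrArg Function.Bijective (funext fun a => ?_)).mpr hb
  exact toAbStalk_germ ξ _ _ t _

/-- The underlying sheaf of a direct image. -/
noncomputable def sheafPushU0 (p : Z ⟶ X) (A : EtCoh.Ab Z) :
    (EtDesc.pushSh p).obj (U0 A) ≅ U0 ((EtCoh.push p).obj A) :=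
  (fullyFaithfulSheafToPresheaf _ _).preimageIso (NatIso.ofComponents (fun _ => Iso.refl _))

variable {f : X ⟶ Y} {b : Y ⟶ S} (U : S.Opens)

/-- The factors are cohomologically proper. -/
theorem isCohPropSet_pushConst (p : Z ⟶ X) [IsIntegralHom p] [QuasiCompact (p ≫ f)] [QuasiSeparated (p ≫ f)]
    (hU : Proper.BijOn (p ≫ f) b (b ⁻¹ᵁ U)) (M : Type) [AddCommGroup M] [Finite M] :
    CohProp.IsCohPropSet (b ∣_ U) (f ∣_ b ⁻¹ᵁ U)
      ((EtDesc.pullSh (f ⁻¹ᵁ b ⁻¹ᵁ U).ι).obj ((EtDesc.pushSh p).obj (U0 (EtCoh.const Z M)))) := by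
  let V := f ⁻¹ᵁ b ⁻¹ᵁ U
  let C := U0 (EtCoh.const Z M)
  haveI : IsIntegralHom (p ∣_ V) :=
    MorphismProperty.of_isPullback (isPullback_morphismRestrict p V).flip ‹IsIntegralHom p›
  have sq : IsPullback (p ⁻¹ᵁ V).ι (p ∣_ V) p V.ι := (isPullback_morphismRestrict p V).flip
  haveI := Groth.DescentBase.isIso_baseChange0Sh p V.ι (p ∣_ V) (p ⁻¹ᵁ V).ι sq C
  refine isCohPropSet_of_iso (asIso (EtBC.baseChange0Sh p V.ι (p ∣_ V) (p ⁻¹ᵁ V).ι sq.w C)).symm ?_
  refine isCohPropSet_push (f ∣_ b ⁻¹ᵁ U) (p ∣_ V) _ ?_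
  obtain ⟨ι, _, c, hc⟩ := exists_constBasis Z M
  have h := Proper.isCohPropSet_of_bijOn U hU ((EtDesc.pullSh (p ⁻¹ᵁ V).ι).obj C) (hc.pull (p ⁻¹ᵁ V).ι)
  have e : (p ≫ f) ∣_ (b ⁻¹ᵁ U) = (p ∣_ V) ≫ f ∣_ (b ⁻¹ᵁ U) := morphismRestrict_comp p f _
  rw [e] at h
  exact h

variable (f b) in
/-- Generic cohomological propriety of constructible sheaves of sets, over all opens of a dense open. -/
theorem exists_dense_forall_isCohPropSet [IsNoetherian S] [LocallyOfFiniteType f] [QuasiCompact f]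
    [LocallyOfFiniteType b] [QuasiCompact b] (F : EtDesc.Sh X) (hF : CohProp.IsConstructibleSet F) :
    ∃ U₀ : S.Opens, Dense (U₀ : Set S) ∧ ∀ U : S.Opens, U ≤ U₀ →
      CohProp.IsCohPropSet (b ∣_ U) (f ∣_ b ⁻¹ᵁ U) ((EtDesc.pullSh (f ⁻¹ᵁ b ⁻¹ᵁ U).ι).obj F) := by
  haveI : CompactSpace Y := QuasiCompact.compactSpace_of_compactSpace b
  haveI : IsLocallyNoetherian Y := LocallyOfFiniteType.isLocallyNoetherian b
  haveI : CompactSpace X := QuasiCompact.compactSpace_of_compactSpace f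
  haveI : IsLocallyNoetherian X := LocallyOfFiniteType.isLocallyNoetherian f
  obtain ⟨A, B, j, s, t, h, hA, hB, ⟨hlim⟩⟩ := exists_presentation (isCons_of_isConstructibleSet hF)
  -- a dense open which works for all the factors
  have key : ∀ {C : EtCoh.Ab X}, IsSum C → ∃ U₀ : S.Opens, Dense (U₀ : Set S) ∧ ∀ U : S.Opens, U ≤ U₀ →
      CohProp.IsCohPropSet (b ∣_ U) (f ∣_ b ⁻¹ᵁ U) ((EtDesc.pullSh (f ⁻¹ᵁ b ⁻¹ᵁ U).ι).obj (U0 C)) := by
    rintro _ ⟨n, Z, p, hp, hp', M, hMg, hM, rfl⟩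
    have hex : ∀ i, ∃ O : S.Opens, Dense (O : Set S) ∧ Proper.BijOn (p i ≫ f) b (b ⁻¹ᵁ O) := fun i => by
      haveI := hp i
      exact Proper.exists_dense_bijOn (p i ≫ f) b
    choose O hO hbij using hex
    refine ⟨Finset.univ.inf O, ?_, fun U hU => ?_⟩
    · refine Finset.inf_induction (p := fun O : S.Opens => Dense (O : Set S)) ?_ ?_ fun i _ => hO i
      · exact dense_univ
      · exact fun O₁ h₁ O₂ h₂ => h₁.inter_of_isOpen_left h₂ O₁.2
    let P := fun i => (EtCoh.push (p i)).obj (EtCoh.const (Z i) (M i))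
    let Ψ : EtCoh.Ab X ⥤ EtDesc.Sh (f ⁻¹ᵁ b ⁻¹ᵁ U : Scheme.{u}) :=
      sheafCompose X.smallEtaleTopology (forget AddCommGrpCat.{u + 1}) ⋙ EtDesc.pullSh (f ⁻¹ᵁ b ⁻¹ᵁ U).ι
    refine isCohPropSet_of_limit (Ψ.mapCone (biproduct.bicone P).toCone)
      (isLimitOfPreserves Ψ (biproduct.isLimit P)) fun i => ?_
    haveI := hp i.as
    letI := hMg i.as
    haveI := hM i.as
    obtain ⟨i⟩ := i
    refine isCohPropSet_of_iso ?_ (isCohPropSet_pushConst U (p i) ((hbij i).mono fun y hy =>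
      (hU.trans (Finset.inf_le (Finset.mem_univ i))) hy) (M i))
    exact (EtDesc.pullSh (f ⁻¹ᵁ b ⁻¹ᵁ U).ι).mapIso (sheafPushU0 (p i) (EtCoh.const (Z i) (M i)))
  obtain ⟨U₁, hU₁, h₁⟩ := key hA
  obtain ⟨U₂, hU₂, h₂⟩ := key hB
  refine ⟨U₁ ⊓ U₂, hU₁.inter_of_isOpen_left hU₂ U₁.2, fun U hU => ?_⟩
  exact isCohPropSet_of_fork _ _ (isLimitForkMapOfIsLimit (EtDesc.pullSh _) h hlim)
    (h₁ _ (hU.trans inf_le_left)) (h₂ _ (hU.trans inf_le_right))

variable (f b) in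
/-- **Generic cohomological propriety of constructible sheaves of sets.** -/
theorem exists_dense_isCohPropSet [IsNoetherian S] [LocallyOfFiniteType f] [QuasiCompact f]
    [LocallyOfFiniteType b] [QuasiCompact b] (F : EtDesc.Sh X) (hF : CohProp.IsConstructibleSet F) :
    ∃ U : S.Opens, Dense (U : Set S) ∧
      CohProp.IsCohPropSet (b ∣_ U) (f ∣_ b ⁻¹ᵁ U) ((EtDesc.pullSh (f ⁻¹ᵁ b ⁻¹ᵁ U).ι).obj F) := by
  obtain ⟨U, hU, h⟩ := exists_dense_forall_isCohPropSet f b F hF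
  exact ⟨U, hU, h U le_rfl⟩

end Groth.ZeroAcyclic.Constructible
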