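import Groth.Agent.ZeroAcyclic.MilnorFibres
import Groth.Agent.ZeroAcyclic.Proper.Clopen
import Groth.Agent.Hensel1.Finite
import Groth.Agent.S14620
import Mathlib.AlgebraicGeometry.Morphisms.OpenImmersion
import Mathlib.AlgebraicGeometry.Morphisms.Finite

/-!
Milnor fibres of weakly étale strictly local schemes, and of finite schemes over them.
-/

set_option autoImplicit false
set_option backward.isDefEq.respectTransparency.types false
set_option linter.style.haveILetI false

universe u v w

open CategoryTheory CategoryTheory.Limits AlgebraicGeometry IsLocalRing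

namespace Groth.ZeroAcyclic.Constructible

/-- A map is bijective on clopen subsets if the target is covered by finitely many preconnected clopen
pieces with nonempty preconnected preimages. -/
theorem clopenBij_of_pieces {W : Type v} {Y : Type w} [TopologicalSpace W] [TopologicalSpace Y] {q : W → Y}
    (hq : Continuous q) {ι : Type*} [Finite ι] (P : ι → Set Y) (hP : ∀ i, IsClopen (P i))
    (hcov : (⋃ i, P i) = Set.univ) (hpc : ∀ i, IsPreconnected (P i))
    (hne : ∀ i, (q ⁻¹' P i).Nonempty) (hpre : ∀ i, IsPreconnected (q ⁻¹' P i)) :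
    Groth.HensPair.ClopenBij q := by
  intro V hV
  let U := ⋃ i : {i // (q ⁻¹' P i ∩ V).Nonempty}, P i.1
  have hU : IsClopen U := isClopen_iUnion_of_finite fun i => hP i.1
  have hUV : q ⁻¹' U = V := by
    refine Set.Subset.antisymm ?_ fun w hw => ?_
    · intro w hw
      obtain ⟨⟨i, hi⟩, hwi⟩ := Set.mem_iUnion.1 hw
      exact (hpre i).subset_isClopen hV hi hwi
    · obtain ⟨i, hi⟩ := Set.mem_iUnion.1 (hcov.ge (Set.mem_univ (q w)))
      exact Set.mem_iUnion.2 ⟨⟨i, w, hi, hw⟩, hi⟩
  refine ⟨U, ⟨hU, hUV⟩, fun U' ⟨hU', hU'V⟩ => Set.ext fun y => ?_⟩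
  obtain ⟨i, hi⟩ := Set.mem_iUnion.1 (hcov.ge (Set.mem_univ y))
  obtain ⟨w, hw⟩ := hne i
  have key : ∀ A : Set Y, IsClopen A → (y ∈ A ↔ q w ∈ A) := fun A hA =>
    ⟨fun h => (hpc i).subset_isClopen hA ⟨y, hi, h⟩ hw, fun h => (hpc i).subset_isClopen hA ⟨q w, hw, h⟩ hi⟩
  rw [key U' hU', key U hU]
  exact Set.ext_iff.1 (hU'V.trans hUV.symm) w

/-- Geometrically connected Milnor fibres over a dense open, for all weakly étale strictly local
schemes. -/
theorem exists_dense_open_geometricallyConnected_weaklyEtale {X S : Scheme.{u}} (a : X ⟶ S) [IsNoetherian S]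
    [LocallyOfFiniteType a] [QuasiCompact a] :
    ∃ U : S.Opens, Dense (U : Set S) ∧
      ∀ ⦃X' S' : Scheme.{u}⦄ (b : S' ⟶ S), Set.range b.base ⊆ (U : Set S) →
        ∀ (f' : X' ⟶ S') (b' : X' ⟶ X), IsPullback b' f' a b →
        ∀ (RS RX : Type u) [CommRing RS] [CommRing RX] [HenselianLocalRing RS] [HenselianLocalRing RX]
          [IsSepClosed (ResidueField RS)] [IsSepClosed (ResidueField RX)]
          (σS : Spec (CommRingCat.of RS) ⟶ S') [WeaklyEtale σS] (σX : Spec (CommRingCat.of RX) ⟶ X')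
          [WeaklyEtale σX] (ψ : RS →+* RX) [IsLocalHom ψ],
          Spec.map (CommRingCat.ofHom ψ) ≫ σS = σX ≫ f' →
            GeometricallyConnected (Spec.map (CommRingCat.ofHom ψ)) := by
  obtain ⟨U, hU, hloc⟩ := exists_dense_open_hasModel a
  refine ⟨U, hU, fun X' S' b hb f' b' hsq RS RX _ _ _ _ _ _ σS _ σX _ ψ _ hν => ?_⟩
  let x := σX (closedPoint RX)
  have hσS : σS (closedPoint RS) = f' x := by
    have h := congrArg (fun k : Spec (CommRingCat.of RX) ⟶ S' => k (closedPoint RX)) hν
    simp only [Scheme.Hom.comp_apply] at h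
    exact (congrArg σS (comap_closedPoint ψ)).symm.trans h
  obtain ⟨V, j, _, hV, hs⟩ := hloc (b (f' x)) (hb ⟨_, rfl⟩)
  let O : S'.Opens := b ⁻¹ᵁ j.opensRange
  have hrS : Set.range σS ⊆ Set.range O.ι := by
    rw [Scheme.Opens.range_ι]
    refine range_subset_of_closedPoint_mem σS O ?_
    rw [hσS]
    exact hs
  have hrX : Set.range σX ⊆ Set.range (f' ⁻¹ᵁ O).ι := by
    rw [Scheme.Opens.range_ι]
    exact range_subset_of_closedPoint_mem σX (f' ⁻¹ᵁ O) hs
  let σS' := IsOpenImmersion.lift O.ι σS hrS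
  let σX' := IsOpenImmersion.lift (f' ⁻¹ᵁ O).ι σX hrX
  have eS : σS' ≫ O.ι = σS := IsOpenImmersion.lift_fac _ _ _
  have eX : σX' ≫ (f' ⁻¹ᵁ O).ι = σX := IsOpenImmersion.lift_fac _ _ _
  haveI : WeaklyEtale (σS' ≫ O.ι) := by rw [eS]; infer_instance
  haveI : WeaklyEtale (σX' ≫ (f' ⁻¹ᵁ O).ι) := by rw [eX]; infer_instance
  haveI : WeaklyEtale σS' := WeaklyEtale.of_comp σS' O.ι
  haveI : WeaklyEtale σX' := WeaklyEtale.of_comp σX' (f' ⁻¹ᵁ O).ι
  have hν' : Spec.map (CommRingCat.ofHom ψ) ≫ σS' = σX' ≫ (f' ∣_ O) := by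
    rw [← cancel_mono O.ι, Category.assoc, Category.assoc, eS, morphismRestrict_ι, reassoc_of% eX]
    exact hν
  have hr : Set.range (O.ι ≫ b) ⊆ Set.range j := by
    rintro _ ⟨o, rfl⟩
    rw [Scheme.Hom.comp_apply]
    exact o.2
  have sq : IsPullback (f' ∣_ O) ((f' ⁻¹ᵁ O).ι ≫ b') (O.ι ≫ b) a :=
    (isPullback_morphismRestrict f' O).paste_vert hsq.flip
  obtain ⟨Z₂, X₂, bZ, ρ, p₂, _, _, _, _, _, _, hρ, hp₂⟩ := exists_model_of_hasModel j hV
    (IsOpenImmersion.lift j (O.ι ≫ b) hr) (IsOpenImmersion.lift_fac _ _ hr) sq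
  exact geometricallyConnected_of_model hρ hp₂ RS RX σS' σX' ψ hν'

/-- The spectrum of a local ring is preconnected. -/
theorem isPreconnected_univ_spec (Q : Type u) [CommRing Q] [IsLocalRing Q] :
    _root_.IsPreconnected (Set.univ : Set (Spec (CommRingCat.of Q))) := by
  haveI : PreconnectedSpace (Spec (CommRingCat.of Q)) := preconnectedSpace_iff_clopen.2 fun s hs => by
    by_cases h : closedPoint Q ∈ s
    · exact Or.inr (Set.eq_univ_of_forall fun z => (PrimeSpectrum.le_iff_specializes z (closedPoint Q)).1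
        (IsLocalRing.le_maximalIdeal z.isPrime.ne_top) |>.mem_open hs.isOpen h)
    · exact Or.inl (Set.eq_empty_of_forall_notMem fun z hz => h (((PrimeSpectrum.le_iff_specializes z
        (closedPoint Q)).1 (IsLocalRing.le_maximalIdeal z.isPrime.ne_top)).mem_closed hs.isClosed hz))
  exact isPreconnected_univ

/-- An integral homomorphism of local rings is local. -/
theorem isLocalHom_of_isIntegral {R Q : Type u} [CommRing R] [CommRing Q] [IsLocalRing R] [IsLocalRing Q]
    (f : R →+* Q) (hf : f.IsIntegral) : IsLocalHom f := by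
  refine ((IsLocalRing.local_hom_TFAE f).out 0 4).mpr ?_
  exact IsLocalRing.eq_maximalIdeal
    (Ideal.isMaximal_comap_of_isIntegral_of_isMaximal' f hf (maximalIdeal Q))

section finite

variable (RS RX B : Type u) [CommRing RS] [CommRing RX] [CommRing B] [HenselianLocalRing RS]
  [HenselianLocalRing RX] [IsSepClosed (ResidueField RX)] (ψ : RS →+* RX) [IsLocalHom ψ] (φ : RX →+* B)

/-- A finite scheme over a strictly local scheme whose pieces have connected Milnor fibres. -/
theorem clopenBij_finite (hφ : φ.Finite)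
    (H : ∀ (Q : Type u) [CommRing Q] [HenselianLocalRing Q] [IsSepClosed (ResidueField Q)] (π : B →+* Q)
      [IsLocalHom ((π.comp φ).comp ψ)], IsOpenImmersion (Spec.map (CommRingCat.ofHom π)) →
      GeometricallyConnected (Spec.map (CommRingCat.ofHom ((π.comp φ).comp ψ))))
    {K : Type u} [Field K] (τ : Spec (CommRingCat.of K) ⟶ Spec (CommRingCat.of RS)) :
    Groth.HensPair.ClopenBij
      (pullback.fst (Spec.map (CommRingCat.ofHom φ) ≫ Spec.map (CommRingCat.ofHom ψ)) τ).base := by
  classical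
  letI : Algebra RX B := φ.toAlgebra
  haveI : Module.Finite RX B := hφ
  obtain ⟨ι, _, e, he, hloc⟩ := Groth.Hensel1.exists_completeOrthogonalIdempotents_local RX B
  let Q := fun i => B ⧸ Ideal.span {1 - e i}
  let π : ∀ i, B →+* Q i := fun i => Ideal.Quotient.mk _
  let j := fun i => Spec.map (CommRingCat.ofHom (π i))
  haveI hj : ∀ i, IsOpenImmersion (j i) := fun i =>
    (isOpenImmersion_SpecMap_iff_of_surjective _ Ideal.Quotient.mk_surjective).2
      ⟨1 - e i, (he.idem i).one_sub, Ideal.mk_ker⟩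
  let P : ι → Set (Spec (CommRingCat.of B)) := fun i => Set.range (j i)
  have hPz : ∀ i, P i = PrimeSpectrum.zeroLocus {1 - e i} := fun i =>
    ((range_comap_of_surjective _ _ Ideal.Quotient.mk_surjective).trans
      (congrArg (fun I : Ideal B => PrimeSpectrum.zeroLocus (I : Set B)) Ideal.mk_ker)).trans
      (PrimeSpectrum.zeroLocus_span _)
  haveI : ∀ i, IsLocalRing (Q i) := hloc
  refine clopenBij_of_pieces (Scheme.Hom.continuous _) P (fun i => ?_) ?_ (fun i => ?_) (fun i => ?_) (fun i => ?_)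
  · exact (hPz i).symm ▸ PrimeSpectrum.isClopen_iff_zeroLocus.2 ⟨_, (he.idem i).one_sub, rfl⟩
  · refine Set.eq_univ_of_forall fun z => ?_
    have h1 : ∃ i, e i ∉ z.asIdeal := by
      by_contra! h
      exact z.isPrime.one_notMem (he.complete ▸ Ideal.sum_mem _ fun i _ => h i)
    obtain ⟨i, hi⟩ := h1
    refine Set.mem_iUnion.2 ⟨i, (hPz i).symm ▸ ?_⟩
    refine (PrimeSpectrum.mem_zeroLocus z _).2 (Set.singleton_subset_iff.2 ?_)
    refine (z.isPrime.mem_or_mem (show e i * (1 - e i) ∈ z.asIdeal from ?_)).resolve_left hi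
    rw [mul_sub, mul_one, (he.idem i).eq, sub_self]
    exact z.asIdeal.zero_mem
  · show _root_.IsPreconnected (Set.range (j i))
    rw [← Set.image_univ]
    exact (isPreconnected_univ_spec (Q i)).image _ (Scheme.Hom.continuous (j i)).continuousOn
  all_goals
    let ψi := ((π i).comp φ).comp ψ
    haveI : IsLocalHom ((π i).comp φ) := isLocalHom_of_isIntegral _
      (RingHom.IsIntegral.trans φ (π i) hφ.to_isIntegral
        ((π i).isIntegral_of_surjective Ideal.Quotient.mk_surjective))
    haveI : IsLocalHom ψi := RingHom.isLocalHom_comp ((π i).comp φ) ψ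
    obtain ⟨_, _⟩ := Groth.Agent.S14620.result ((π i).comp φ)
      (RingHom.Finite.comp (RingHom.Finite.of_surjective _ Ideal.Quotient.mk_surjective) hφ)
      ⟨‹HenselianLocalRing RX›, ‹_›⟩
    haveI := H (Q i) (π i) (hj i)
    let g := Spec.map (CommRingCat.ofHom φ) ≫ Spec.map (CommRingCat.ofHom ψ)
    have hg : j i ≫ g = Spec.map (CommRingCat.ofHom ψi) := by
      show Spec.map (CommRingCat.ofHom (π i)) ≫ Spec.map (CommRingCat.ofHom φ) ≫
        Spec.map (CommRingCat.ofHom ψ) = _
      rw [← Spec.map_comp, ← Spec.map_comp]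
      rfl
    let L := pullback (j i) (pullback.fst g τ)
    have hsq : IsPullback (pullback.fst (j i) (pullback.fst g τ))
        (pullback.snd (j i) (pullback.fst g τ) ≫ pullback.snd g τ) (Spec.map (CommRingCat.ofHom ψi)) τ := by
      rw [← hg]
      exact ((IsPullback.of_hasPullback (j i) (pullback.fst g τ)).flip.paste_horiz
        (IsPullback.of_hasPullback g τ).flip).flip
    have hc : ConnectedSpace L :=
      GeometricallyConnected.geometrically_connectedSpace (f := Spec.map (CommRingCat.ofHom ψi)) τ _ _ hsq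
    have hr : (pullback.fst g τ).base ⁻¹' P i = Set.range (pullback.snd (j i) (pullback.fst g τ)).base :=
      (Scheme.Pullback.range_snd (f := j i) (g := pullback.fst g τ)).symm
  · show ((pullback.fst g τ).base ⁻¹' P i).Nonempty
    rw [hr]
    exact Set.range_nonempty _
  · show _root_.IsPreconnected ((pullback.fst g τ).base ⁻¹' P i)
    rw [hr]
    exact (isConnected_range (Scheme.Hom.continuous _)).isPreconnected

end finite

end Groth.ZeroAcyclic.Constructible
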