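import Groth.Agent.FBaseGeom.SepLevel
import Groth.Agent.Curves1.CurveMor.Smooth
import Groth.Agent.Flatmor4.EtaleSplit
import Groth.Agent.RaynaudGruson.IrreducibleFibresScheme
import Groth.Agent.ZeroAcyclic.Constructible.MilnorLocal
import Groth.Agent.S0420

/-!
Étale neighbourhoods of maximal points over which a morphism of finite type decomposes into finitely many
pieces with geometrically connected fibres.
-/

set_option autoImplicit false
set_option backward.isDefEq.respectTransparency.types false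
set_option linter.style.haveILetI false

universe u

open CategoryTheory CategoryTheory.Limits AlgebraicGeometry Topology TopologicalSpace

namespace Groth.ZeroAcyclic.Constructible

variable {Q V : Scheme.{u}}

/-- Over `O` the scheme `Q` is a finite disjoint union of open pieces with geometrically connected fibres,
each the closure of its generic fibre. -/
def Split (p : Q ⟶ V) (η : V) (O : V.Opens) : Prop :=
  η ∈ O ∧ (∀ v ∈ O, η ⤳ v) ∧ ∃ (n : ℕ) (D : Fin n → Q.Opens),
    (∀ x, p x ∈ O → ∃ i, x ∈ D i) ∧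
    (∀ i j x, p x ∈ O → x ∈ D i → x ∈ D j → i = j) ∧
    (∀ i x, p x ∈ O → x ∈ D i → x ∈ closure ((D i : Set Q) ∩ p.base ⁻¹' {η})) ∧
    ∀ i (K : Type u) [Field K] (z : Spec (CommRingCat.of K) ⟶ V), z default ∈ O →
      _root_.IsConnected ((pullback.fst p z).base ⁻¹' (D i : Set Q))

/-- Restriction of a split morphism: finitely many preconnected clopen pieces, bijective on clopen subsets with
the geometric fibres. -/
theorem Split.clopen {p : Q ⟶ V} {η : V} {O : V.Opens} (h : Split p η O) {V' Q' : Scheme.{u}} (j : V' ⟶ V)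
    [IsOpenImmersion j] [Nonempty V'] (hj : Set.range j ⊆ (O : Set V)) {e : Q' ⟶ Q} {p' : Q' ⟶ V'}
    (sq : IsPullback e p' p j) :
    ∃ (n : ℕ) (P : Fin n → Set Q'), (∀ i, _root_.IsPreconnected (P i)) ∧ (∀ x, ∃ i, x ∈ P i) ∧
      ∀ (K : Type u) [Field K] (τ : Spec (CommRingCat.of K) ⟶ V'),
        Groth.HensPair.ClopenBij (pullback.fst p' τ).base := by
  obtain ⟨hη, hgen, n, D, hcov, hdisj, hcl, hconn⟩ := h
  haveI : IsOpenImmersion e := MorphismProperty.of_isPullback (P := @IsOpenImmersion) sq.flip ‹_›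
  have hpe : ∀ x, p (e x) ∈ O := fun x => by
    rw [← Scheme.Hom.comp_apply, sq.w, Scheme.Hom.comp_apply]
    exact hj ⟨_, rfl⟩
  let P : Fin n → Set Q' := fun i => e.base ⁻¹' (D i : Set Q)
  have hPo : ∀ i, IsOpen (P i) := fun i => (D i).2.preimage e.continuous
  have hPu : ∀ i, (P i)ᶜ = ⋃ k : {k // k ≠ i}, P k.1 := fun i => by
    ext x
    refine ⟨fun hx => ?_, fun hx hxi => ?_⟩
    · obtain ⟨k, hk⟩ := hcov _ (hpe x)
      exact Set.mem_iUnion.2 ⟨⟨k, fun hki => hx (hki ▸ hk)⟩, hk⟩
    · obtain ⟨⟨k, hk⟩, hxk⟩ := Set.mem_iUnion.1 hx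
      exact hk (hdisj k i _ (hpe x) hxk hxi)
  have hPc : ∀ i, IsClopen (P i) := fun i =>
    ⟨isOpen_compl_iff.1 (hPu i ▸ isOpen_iUnion fun k => hPo k.1), hPo i⟩
  have hrange : Set.range e = p.base ⁻¹' Set.range j := by
    rw [← sq.isoPullback_hom_fst]
    show Set.range ((pullback.fst p j).base ∘ sq.isoPullback.hom.base) = _
    rw [Set.range_comp, (show Function.Surjective sq.isoPullback.hom.base from
      sq.isoPullback.hom.homeomorph.surjective).range_eq, Set.image_univ]
    exact Scheme.Pullback.range_fst p j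
  have hηj : η ∈ Set.range j := by
    obtain ⟨v⟩ := (inferInstance : Nonempty V')
    exact (hgen (j v) (hj ⟨v, rfl⟩)).mem_open j.isOpenEmbedding.isOpen_range ⟨v, rfl⟩
  have hfib : ∀ i, _root_.IsPreconnected ((D i : Set Q) ∩ p.base ⁻¹' {η}) := fun i => by
    have h1 := (hconn i (V.residueField η) (V.fromSpecResidueField η)
      (by rw [Scheme.fromSpecResidueField_apply]; exact hη)).isPreconnected.image
      (pullback.fst p (V.fromSpecResidueField η)).base (Scheme.Hom.continuous _).continuousOn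
    rw [Set.image_preimage_eq_inter_range] at h1
    have h2 : Set.range (pullback.fst p (V.fromSpecResidueField η)).base = p.base ⁻¹' {η} :=
      (Scheme.Pullback.range_fst p _).trans (congrArg (p.base ⁻¹' ·) (V.range_fromSpecResidueField η))
    rwa [h2] at h1
  refine ⟨n, P, fun i => ?_, fun x => hcov _ (hpe x), fun K _ τ => ?_⟩
  · rw [← e.isOpenEmbedding.isInducing.isPreconnected_image, Set.image_preimage_eq_inter_range]
    refine (hfib i).subset_closure (Set.inter_subset_inter_right _ ?_) fun x hx => ?_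
    · rw [hrange]
      exact Set.preimage_mono (Set.singleton_subset_iff.2 hηj)
    · obtain ⟨x', rfl⟩ := hx.2
      exact hcl i _ (hpe x') hx.1
  · have sq' : IsPullback (pullback.fst p' τ ≫ e) (pullback.snd p' τ) p (τ ≫ j) :=
      (IsPullback.of_hasPullback p' τ).paste_horiz sq
    have hc : ∀ i, _root_.IsConnected ((pullback.fst p' τ).base ⁻¹' P i) := fun i => by
      have h1 := hconn i K (τ ≫ j) (by rw [Scheme.Hom.comp_apply]; exact hj ⟨_, rfl⟩)
      have h2 : (pullback.fst p' τ).base ⁻¹' P i =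
          sq'.isoPullback.hom.homeomorph ⁻¹' ((pullback.fst p (τ ≫ j)).base ⁻¹' (D i : Set Q)) := by
        ext x
        show e (pullback.fst p' τ x) ∈ D i ↔ pullback.fst p (τ ≫ j) (sq'.isoPullback.hom x) ∈ D i
        rw [← Scheme.Hom.comp_apply, ← Scheme.Hom.comp_apply, sq'.isoPullback_hom_fst]
      rw [h2]
      exact sq'.isoPullback.hom.homeomorph.isConnected_preimage.2 h1
    refine clopenBij_of_pieces (Scheme.Hom.continuous _) P hPc
      (Set.eq_univ_of_forall fun x => Set.mem_iUnion.2 (hcov _ (hpe x))) (fun i => ?_)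
      (fun i => (hc i).nonempty) fun i => (hc i).isPreconnected
    rw [← e.isOpenEmbedding.isInducing.isPreconnected_image, Set.image_preimage_eq_inter_range]
    refine (hfib i).subset_closure (Set.inter_subset_inter_right _ ?_) fun x hx => ?_
    · rw [hrange]
      exact Set.preimage_mono (Set.singleton_subset_iff.2 hηj)
    · obtain ⟨x', rfl⟩ := hx.2
      exact hcl i _ (hpe x') hx.1

/-- The fibres of an open piece. -/
theorem connectedSpace_pullback_iff (p : Q ⟶ V) (D : Q.Opens) {K : Type u} [Field K]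
    (z : Spec (CommRingCat.of K) ⟶ V) :
    ConnectedSpace ↥(pullback (D.ι ≫ p) z) ↔ _root_.IsConnected ((pullback.fst p z).base ⁻¹' (D : Set Q)) := by
  have h1 : Set.range (pullback.snd D.ι (pullback.fst p z)).base = (pullback.fst p z).base ⁻¹' (D : Set Q) :=
    (Scheme.Pullback.range_snd (f := D.ι) (g := pullback.fst p z)).trans
      (congrArg _ (Scheme.Opens.range_ι D))
  rw [← (pullbackRightPullbackFstIso p z D.ι).hom.homeomorph.connectedSpace_iff, ← h1, ← Set.image_univ,
    _root_.IsConnected, Set.image_nonempty,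
    (pullback.snd D.ι (pullback.fst p z)).isOpenEmbedding.isInducing.isPreconnected_image]
  exact connectedSpace_iff_univ

/-- Connectedness of the preimage of a subset does not depend on the field valued point. -/
theorem isConnected_preimage_of_range (p : Q ⟶ V) {E : Type u} [Field E] (σ : Spec (CommRingCat.of E) ⟶ V)
    {M : Scheme.{u}} {m : M ⟶ Q} {π : M ⟶ Spec (CommRingCat.of E)} (sq : IsPullback m π p σ) (D : Set Q)
    (h : ∀ (L : Type u) [Field L] (τ : Spec (CommRingCat.of L) ⟶ Spec (CommRingCat.of E)),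
      _root_.IsConnected ((pullback.fst π τ).base ⁻¹' (m.base ⁻¹' D)))
    {K : Type u} [Field K] (z : Spec (CommRingCat.of K) ⟶ V) (hz : z default = σ default) :
    _root_.IsConnected ((pullback.fst p z).base ⁻¹' D) := by
  obtain ⟨w, -, -⟩ := Scheme.Pullback.exists_preimage_pullback (f := z) (g := σ) default default hz
  let χ := (pullback z σ).fromSpecResidueField w ≫ pullback.fst z σ
  let τ := (pullback z σ).fromSpecResidueField w ≫ pullback.snd z σ
  have sqL : IsPullback (pullback.fst π τ ≫ m) (pullback.snd π τ) p (χ ≫ z) := by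
    have h1 := (IsPullback.of_hasPullback π τ).paste_horiz sq
    rwa [show χ ≫ z = τ ≫ σ by simp only [χ, τ, Category.assoc, pullback.condition]]
  let ρ : pullback π τ ⟶ pullback p z :=
    pullback.lift (pullback.fst π τ ≫ m) (pullback.snd π τ ≫ χ) (sqL.w.trans (Category.assoc _ _ _).symm)
  have hρ : IsPullback ρ (pullback.snd π τ) (pullback.snd p z) χ := by
    refine IsPullback.of_right ?_ (pullback.lift_snd _ _ _) (IsPullback.of_hasPullback p z)
    rw [pullback.lift_fst]
    exact sqL
  haveI : Surjective χ :=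
    ⟨fun _ => ⟨(default : Spec (CommRingCat.of _)), Subsingleton.elim (α := PrimeSpectrum K) _ _⟩⟩
  haveI : Surjective ρ := MorphismProperty.of_isPullback (P := @Surjective) hρ.flip ‹_›
  have h2 := (h _ τ).image ρ.base ρ.continuous.continuousOn
  have h3 : (pullback.fst π τ).base ⁻¹' (m.base ⁻¹' D) = ρ.base ⁻¹' ((pullback.fst p z).base ⁻¹' D) := by
    ext x
    show m (pullback.fst π τ x) ∈ D ↔ pullback.fst p z (ρ x) ∈ D
    rw [← Scheme.Hom.comp_apply, ← Scheme.Hom.comp_apply, pullback.lift_fst]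
  exact (congrArg _root_.IsConnected
    ((congrArg (ρ.base '' ·) h3).trans (Set.image_preimage_eq _ ρ.surjective))).mp h2

theorem geometricallyConnected_fiber (p : Q ⟶ V) (D : Q.Opens) (v : V)
    (h : ∀ (K : Type u) [Field K] (z : Spec (CommRingCat.of K) ⟶ V), z default = v →
      _root_.IsConnected ((pullback.fst p z).base ⁻¹' (D : Set Q))) :
    GeometricallyConnected ((D.ι ≫ p).fiberToSpecResidueField v) := by
  refine ⟨geometrically_iff_of_isClosedUnderIsomorphisms.mpr fun L _ x => ?_⟩
  exact (pullbackLeftPullbackSndIso (D.ι ≫ p) (V.fromSpecResidueField v) x).hom.homeomorph.connectedSpace_iff.2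
    ((connectedSpace_pullback_iff p D _).2 (h L _ (by
      rw [Scheme.Hom.comp_apply, Scheme.fromSpecResidueField_apply])))

set_option maxHeartbeats 1000000 in
/-- The pieces spread out from the generic fibre. -/
theorem exists_split_of_generic [IrreducibleSpace V] [IsLocallyNoetherian V] (p : Q ⟶ V)
    [LocallyOfFiniteType p] [QuasiCompact p] {n : ℕ} (P : Fin n → Set Q)
    (hP : ∀ i, P i ⊆ p.base ⁻¹' {genericPoint ↥V})
    (hPc : ∀ i, closure (P i) ∩ p.base ⁻¹' {genericPoint ↥V} = P i)
    (hcov : ∀ x, p x = genericPoint ↥V → ∃ i, x ∈ P i) (hdisj : ∀ i j x, x ∈ P i → x ∈ P j → i = j)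
    (hconn : ∀ i (K : Type u) [Field K] (z : Spec (CommRingCat.of K) ⟶ V), z default = genericPoint ↥V →
      _root_.IsConnected ((pullback.fst p z).base ⁻¹' P i)) :
    ∃ O : V.Opens, Split p (genericPoint ↥V) O := by
  classical
  let η := genericPoint ↥V
  have hηmem : ∀ {O : V.Opens}, (O : Set V).Nonempty → η ∈ O := fun {O} ⟨v, hv⟩ =>
    ((genericPoint_spec ↥V).specializes trivial).mem_open O.isOpen hv
  haveI : IsLocallyNoetherian Q := LocallyOfFiniteType.isLocallyNoetherian p
  -- covering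
  obtain ⟨V₁, hV₁, hgenz⟩ := Groth.RaynaudGruson.exists_open_generalizing p
  have hcov₁ : ∀ x, p x ∈ V₁ → ∃ i, x ∈ closure (P i) := fun x hx => by
    obtain ⟨z, hzx, hz⟩ := hgenz x hx
    obtain ⟨i, hi⟩ := hcov z hz
    exact ⟨i, hzx.mem_closed isClosed_closure (subset_closure hi)⟩
  -- disjointness
  have hij : ∀ ij : Fin n × Fin n, ∃ O : V.Opens, η ∈ O ∧
      ∀ x, p x ∈ O → x ∈ closure (P ij.1) → x ∈ closure (P ij.2) → ij.1 = ij.2 := fun ij => by
    by_cases he : ij.1 = ij.2
    · exact ⟨⊤, trivial, fun _ _ _ _ => he⟩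
    let C : Set Q := closure (P ij.1) ∩ closure (P ij.2)
    have hc : IsClosed C := isClosed_closure.inter isClosed_closure
    let I := Scheme.IdealSheafData.vanishingIdeal (X := Q) ⟨C, hc⟩
    have hr : Set.range I.subschemeι.base = C := by
      rw [Scheme.IdealSheafData.range_subschemeι, Scheme.IdealSheafData.coe_support_vanishingIdeal]
      rfl
    obtain ⟨O, hO, hgO⟩ := Groth.RaynaudGruson.exists_open_generalizing (I.subschemeι ≫ p)
    refine ⟨O, hηmem hO, fun x hx h1 h2 => absurd ?_ he⟩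
    obtain ⟨w, rfl⟩ := hr.ge (show x ∈ C from ⟨h1, h2⟩)
    obtain ⟨z, -, hz⟩ := hgO w (by rw [Scheme.Hom.comp_apply]; exact hx)
    rw [Scheme.Hom.comp_apply] at hz
    have hzC : I.subschemeι z ∈ C := hr.le ⟨z, rfl⟩
    exact hdisj _ _ _ ((hPc _).le ⟨hzC.1, hz⟩) ((hPc _).le ⟨hzC.2, hz⟩)
  choose V₂ hV₂η hV₂ using hij
  let O₂ : V.Opens := V₁ ⊓ Finset.univ.inf V₂
  have hO₂ : η ∈ O₂ := ⟨hηmem hV₁, Finset.inf_induction (p := fun O : V.Opens => η ∈ O) trivial
    (fun _ h₁ _ h₂ => ⟨h₁, h₂⟩) fun ij _ => hV₂η ij⟩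
  have hO₂ij : ∀ v ∈ O₂, ∀ ij, v ∈ V₂ ij := fun v hv ij => SetLike.le_def.1 (Finset.inf_le (f := V₂) (Finset.mem_univ ij)) hv.2
  let D : Fin n → Q.Opens := fun i =>
    ⟨p.base ⁻¹' (O₂ : Set V) ∩ (⋃ k : {k // k ≠ i}, closure (P k.1))ᶜ,
      (O₂.2.preimage p.continuous).inter (isClosed_iUnion_of_finite fun k => isClosed_closure).isOpen_compl⟩
  have hD : ∀ i x, x ∈ D i ↔ p x ∈ O₂ ∧ x ∈ closure (P i) := fun i x => by
    refine ⟨fun hx => ⟨hx.1, ?_⟩, fun hx => ⟨hx.1, fun hk => ?_⟩⟩
    · obtain ⟨k, hk⟩ := hcov₁ x hx.1.1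
      by_cases hki : k = i
      · exact hki ▸ hk
      · exact absurd (Set.mem_iUnion.2 ⟨⟨k, hki⟩, hk⟩) hx.2
    · obtain ⟨⟨k, hki⟩, hxk⟩ := Set.mem_iUnion.1 hk
      exact hki (hV₂ (k, i) x (hO₂ij _ hx.1 (k, i)) hxk hx.2)
  have hDP : ∀ i, (D i : Set Q) ∩ p.base ⁻¹' {η} = P i := fun i => by
    ext x
    refine ⟨fun hx => (hPc i).le ⟨((hD i x).1 hx.1).2, hx.2⟩, fun hx => ⟨(hD i x).2 ⟨?_, subset_closure hx⟩, hP i hx⟩⟩
    rw [show p x = η from hP i hx]
    exact hO₂
  -- geometric connectedness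
  have hV₃ : ∀ i, ∃ O : V.Opens, (O : Set V).Nonempty ∧ GeometricallyConnected (((D i).ι ≫ p) ∣_ O) := fun i => by
    haveI : LocallyOfFiniteType ((D i).ι ≫ p) := inferInstance
    haveI : QuasiCompact (D i).ι := inferInstance
    refine Groth.Agent.S0420.result ((D i).ι ≫ p) (geometricallyConnected_fiber p (D i) η fun K _ z hz => ?_)
    refine (congrArg _root_.IsConnected ?_).mpr (hconn i K z hz)
    ext w
    refine ⟨fun hw => (hDP i).le ⟨hw, ?_⟩, fun hw => ((hDP i).ge hw).1⟩
    show p (pullback.fst p z w) = η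
    rw [← Scheme.Hom.comp_apply, pullback.condition, Scheme.Hom.comp_apply, ← hz]
    exact congrArg z (Subsingleton.elim (α := PrimeSpectrum K) _ _)
  choose V₃ hV₃ne hV₃ using hV₃
  let O := O₂ ⊓ Finset.univ.inf V₃
  refine ⟨O, ⟨hO₂, Finset.inf_induction (p := fun O : V.Opens => η ∈ O) trivial
    (fun _ h₁ _ h₂ => ⟨h₁, h₂⟩) fun i _ => hηmem (hV₃ne i)⟩,
    fun v _ => (genericPoint_spec ↥V).specializes trivial, n, D, fun x hx => ?_, fun i j x hx hi hj => ?_,
    fun i x hx hi => ?_, fun i K _ z hz => ?_⟩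
  · obtain ⟨i, hi⟩ := hcov₁ x hx.1.1
    exact ⟨i, (hD i x).2 ⟨hx.1, hi⟩⟩
  · exact hV₂ (i, j) x (hO₂ij _ hx.1 _) ((hD i x).1 hi).2 ((hD j x).1 hj).2
  · rw [hDP]
    exact ((hD i x).1 hi).2
  · have hz' : Set.range z.base ⊆ Set.range (V₃ i).ι.base := by
      rintro _ ⟨t, rfl⟩
      rw [Scheme.Opens.range_ι, Subsingleton.elim (α := ↥(Spec (CommRingCat.of K))) t default]
      exact SetLike.le_def.1 (Finset.inf_le (f := V₃) (Finset.mem_univ i)) (SetLike.mem_coe.1 hz.2)
    let z' := IsOpenImmersion.lift (V₃ i).ι z hz'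
    have hzz : z' ≫ (V₃ i).ι = z := IsOpenImmersion.lift_fac _ _ _
    haveI := hV₃ i
    have h1 : ConnectedSpace ↥(pullback (((D i).ι ≫ p) ∣_ V₃ i) z') :=
      GeometricallyConnected.geometrically_connectedSpace (f := ((D i).ι ≫ p) ∣_ V₃ i) z' _ _
        (IsPullback.of_hasPullback _ _)
    have e : pullback (((D i).ι ≫ p) ∣_ V₃ i) z' ≅ pullback ((D i).ι ≫ p) (z' ≫ (V₃ i).ι) :=
      ((IsPullback.of_hasPullback (((D i).ι ≫ p) ∣_ V₃ i) z').paste_horiz
        (isPullback_morphismRestrict ((D i).ι ≫ p) (V₃ i)).flip).isoPullback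
    rw [hzz] at e
    exact (connectedSpace_pullback_iff p (D i) z).1 (e.hom.homeomorph.connectedSpace_iff.1 h1)

variable {Z S : Scheme.{u}}

/-- Generalizations inside the fibres of an étale morphism are trivial. -/
theorem eq_of_specializes_of_eq {U : Scheme.{u}} (g : U ⟶ S) [Etale g] {y u : U} (h : y ⤳ u)
    (he : g y = g u) : y = u := by
  have hd := g.isDiscrete_preimage_singleton (g u)
  haveI := hd.to_subtype
  let a : ↥(g.base ⁻¹' {g u}) := ⟨y, he⟩
  let b : ↥(g.base ⁻¹' {g u}) := ⟨u, rfl⟩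
  exact congrArg Subtype.val (IsInducing.subtypeVal.specializes_iff.1 (show a.1 ⤳ b.1 from h)).eq

/-- An irreducible open neighbourhood of a maximal point. -/
theorem exists_irreducible_nhd {U : Scheme.{u}} [IsLocallyNoetherian U] (x : U) (hx : ∀ y, y ⤳ x → y = x)
    (O : U.Opens) (hxO : x ∈ O) : ∃ N : U.Opens, N ≤ O ∧ x ∈ N ∧ ∀ y ∈ N, x ⤳ y := by
  obtain ⟨A, hA, hxA, hAO⟩ := exists_isAffineOpen_mem_and_subset hxO
  haveI : IsAffine (A : Scheme.{u}) := hA
  haveI : IsNoetherian (A : Scheme.{u}) := {}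
  let a : (A : Scheme.{u}) := ⟨x, hxA⟩
  let others : Set (Set (A : Scheme.{u})) := {Z ∈ irreducibleComponents (A : Scheme.{u}) | a ∉ Z}
  have hcl : IsClosed (⋃ Z ∈ others, Z) :=
    ((NoetherianSpace.finite_irreducibleComponents).subset (Set.sep_subset _ _)).isClosed_biUnion
      fun Z hZ => isClosed_of_mem_irreducibleComponents Z hZ.1
  refine ⟨A.ι ''ᵁ ⟨_, hcl.isOpen_compl⟩, ?_, ⟨a, ?_, rfl⟩, ?_⟩
  · rintro y ⟨b, -, rfl⟩
    exact hAO b.2
  · intro ha
    obtain ⟨Z, hZ, haZ⟩ := Set.mem_iUnion₂.1 ha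
    exact hZ.2 haZ
  · rintro y ⟨b, hb, rfl⟩
    let Z := irreducibleComponent b
    have hZ : Z ∈ irreducibleComponents (A : Scheme.{u}) := irreducibleComponent_mem_irreducibleComponents b
    have haZ : a ∈ Z := by
      by_contra h
      exact hb (Set.mem_iUnion₂.2 ⟨Z, ⟨hZ, h⟩, mem_irreducibleComponent⟩)
    let c := (isIrreducible_irreducibleComponent (x := b)).genericPoint
    have hg : IsGenericPoint c Z := (isIrreducible_irreducibleComponent (x := b)).isGenericPoint_genericPoint
      isClosed_irreducibleComponent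
    have h1 : A.ι c = x := hx _ ((hg.specializes haZ).map A.ι.continuous)
    rw [← h1]
    exact (hg.specializes mem_irreducibleComponent).map A.ι.continuous

set_option maxHeartbeats 1000000 in
/-- **Splitting near a maximal point, étale locally.** -/
theorem exists_split [IsLocallyNoetherian S] (q : Z ⟶ S) [LocallyOfFiniteType q] [QuasiCompact q] (η : S)
    (hmax : ∀ y, y ⤳ η → y = η) (O₀ : S.Opens) (hη : η ∈ O₀) :
    ∃ (V : Scheme.{u}) (g : V ⟶ S) (_ : Etale g) (v : V) (O : V.Opens),
      g v = η ∧ Set.range g ⊆ (O₀ : Set S) ∧ Split (pullback.fst g q) v O := by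
  classical
  -- the generic fibre and the separable level
  let κ := S.residueField η
  let X := q.fiber η
  letI : X.Over (Spec (CommRingCat.of κ)) := ⟨q.fiberToSpecResidueField η⟩
  haveI : LocallyOfFiniteType (X ↘ Spec (CommRingCat.of κ)) := MorphismProperty.pullback_snd _ _ ‹LocallyOfFiniteType q›
  haveI : QuasiCompact (X ↘ Spec (CommRingCat.of κ)) := MorphismProperty.pullback_snd _ _ ‹QuasiCompact q›
  haveI : CompactSpace X := QuasiCompact.compactSpace_of_compactSpace (X ↘ Spec (CommRingCat.of κ))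
  haveI : IsLocallyNoetherian X := LocallyOfFiniteType.isLocallyNoetherian (X ↘ Spec (CommRingCat.of κ))
  haveI : IsNoetherian X := {}
  haveI : Finite (irreducibleComponents X) := NoetherianSpace.finite_irreducibleComponents.to_subtype
  choose pt hpt hptc using fun C : irreducibleComponents X =>
    (isClosed_of_mem_irreducibleComponents C.1 C.2).exists_closed_singleton C.2.1.1
  obtain ⟨E, hEfin, hE⟩ := Groth.FBaseGeom.exists_sepClosedAt_level (k := κ) (X := X) pt (fun C => by
    letI := Curv2.resAlgebra κ X (pt C)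
    haveI : FiniteDimensional κ (X.residueField (pt C)) :=
      Groth.Curves1.CurveMor.finite_residueField_of_isClosed (hptc C)
    infer_instance)
  haveI := hEfin
  haveI : Algebra.IsSeparable κ E := Algebra.isSeparable_tower_bot_of_isSeparable κ E (SeparableClosure κ)
  -- the étale neighbourhood
  obtain ⟨U, g₀, u₀, hu₀, hg₀, hres⟩ := Groth.Flatmor4.exists_etale_residueField S η E
  letI := ((S.residueFieldCongr hu₀).inv ≫ g₀.residueFieldMap u₀).hom.toAlgebra
  obtain ⟨e⟩ := hres
  haveI := hg₀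
  haveI : IsLocallyNoetherian U := LocallyOfFiniteType.isLocallyNoetherian g₀
  have humax : ∀ y, y ⤳ u₀ → y = u₀ := fun y hy =>
    eq_of_specializes_of_eq g₀ hy ((hmax _ (hu₀ ▸ hy.map g₀.continuous)).trans hu₀.symm)
  obtain ⟨N, hN, huN, hNgen⟩ := exists_irreducible_nhd u₀ humax (g₀ ⁻¹ᵁ O₀) (show g₀ u₀ ∈ O₀ from hu₀ ▸ hη)
  let V : Scheme.{u} := N
  let v : V := ⟨u₀, huN⟩
  let g : V ⟶ S := N.ι ≫ g₀
  have hvgen : ∀ w : V, v ⤳ w := fun w =>
    N.ι.isOpenEmbedding.isInducing.specializes_iff.1 (hNgen w.1 w.2)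
  have hvg : IsGenericPoint v (⊤ : Set V) :=
    Set.eq_univ_of_forall fun w => (hvgen w).mem_closure
  haveI : IrreducibleSpace V := by
    rw [irreducibleSpace_def]
    exact hvg.isIrreducible
  have hv : genericPoint ↥V = v := ((genericPoint_spec ↥V).eq hvg)
  -- the field valued point over it
  let c : U.residueField u₀ →+* E := e.symm.toRingEquiv.toRingHom
  haveI : IsIso (CommRingCat.ofHom c) :=
    (ConcreteCategory.isIso_iff_bijective _).2 e.symm.bijective
  let σ₀ : Spec (CommRingCat.of E) ⟶ U := Spec.map (CommRingCat.ofHom c) ≫ U.fromSpecResidueField u₀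
  have hσ₀g : σ₀ ≫ g₀ = Spec.map (CommRingCat.ofHom (algebraMap κ E)) ≫ S.fromSpecResidueField η := by
    rw [← Scheme.residueFieldCongr_fromSpecResidueField hu₀, Category.assoc,
      ← g₀.SpecMap_residueFieldMap_fromSpecResidueField u₀, ← Spec.map_comp_assoc, ← Spec.map_comp_assoc]
    congr 1
    apply congrArg Spec.map
    refine CommRingCat.hom_ext (RingHom.ext fun a => ?_)
    let b := (S.residueFieldCongr hu₀).hom a
    show e.symm ((g₀.residueFieldMap u₀).hom a) = algebraMap κ E b
    refine Eq.trans ?_ (e.symm.commutes b)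
    refine congrArg e.symm ?_
    rw [RingHom.algebraMap_toAlgebra]
    show (g₀.residueFieldMap u₀).hom a =
      (g₀.residueFieldMap u₀).hom ((S.residueFieldCongr hu₀).inv ((S.residueFieldCongr hu₀).hom a))
    rw [← ConcreteCategory.comp_apply, ← ConcreteCategory.comp_apply, Iso.hom_inv_id_assoc]
  have hσ₀ : Set.range σ₀ ⊆ Set.range N.ι := by
    rintro _ ⟨t, rfl⟩
    rw [Scheme.Hom.comp_apply, Scheme.fromSpecResidueField_apply, Scheme.Opens.range_ι]
    exact huN
  let σ : Spec (CommRingCat.of E) ⟶ V := IsOpenImmersion.lift N.ι σ₀ hσ₀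
  have hσι : σ ≫ N.ι = σ₀ := IsOpenImmersion.lift_fac _ _ _
  haveI : IsPreimmersion (σ ≫ N.ι) := by rw [hσι]; infer_instance
  haveI : IsPreimmersion σ := IsPreimmersion.of_comp σ N.ι
  have hσv : ∀ t, σ t = v := fun t => N.ι.isOpenEmbedding.injective (by
    rw [← Scheme.Hom.comp_apply, hσι, Scheme.Hom.comp_apply, Scheme.fromSpecResidueField_apply]
    rfl)
  -- the fibre
  let p := pullback.fst g q
  let M := Curv2.bc κ X E
  let π : M ⟶ Spec (CommRingCat.of E) := Curv2.bcSnd κ X E
  have hout : IsPullback (Curv2.bcFst κ X E ≫ pullback.fst q (S.fromSpecResidueField η)) π q (σ ≫ g) := by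
    rw [show σ ≫ g = Spec.map (CommRingCat.ofHom (algebraMap κ E)) ≫ S.fromSpecResidueField η by
      rw [← hσ₀g, ← hσι, Category.assoc]]
    exact (IsPullback.of_hasPullback _ _).paste_horiz (IsPullback.of_hasPullback q (S.fromSpecResidueField η))
  let m : M ⟶ pullback g q := pullback.lift (π ≫ σ) (Curv2.bcFst κ X E ≫ pullback.fst q (S.fromSpecResidueField η))
    ((Category.assoc _ _ _).trans hout.w.symm)
  have sq : IsPullback m π p σ := by
    refine IsPullback.of_right ?_ (pullback.lift_fst _ _ _) (IsPullback.of_hasPullback g q).flip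
    rw [pullback.lift_snd]
    exact hout
  haveI : IsPreimmersion m := MorphismProperty.of_isPullback (P := @IsPreimmersion) sq.flip ‹_›
  have hrange : Set.range m.base = p.base ⁻¹' {v} := by
    rw [← sq.isoPullback_hom_fst]
    show Set.range ((pullback.fst p σ).base ∘ sq.isoPullback.hom.base) = _
    rw [Set.range_comp, (show Function.Surjective sq.isoPullback.hom.base from
        sq.isoPullback.hom.homeomorph.surjective).range_eq, Set.image_univ,
      show Set.range (pullback.fst p σ).base = p.base ⁻¹' Set.range σ.base from Scheme.Pullback.range_fst p σ]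
    refine congrArg _ (Set.eq_singleton_iff_unique_mem.2 ⟨⟨default, hσv _⟩, ?_⟩)
    rintro _ ⟨t, rfl⟩
    exact hσv t
  haveI : QuasiCompact π := inferInstance
  haveI : LocallyOfFiniteType π := inferInstance
  haveI : CompactSpace M := QuasiCompact.compactSpace_of_compactSpace π
  haveI : IsLocallyNoetherian M := LocallyOfFiniteType.isLocallyNoetherian π
  haveI : IsNoetherian M := {}
  haveI : Finite (irreducibleComponents M) := NoetherianSpace.finite_irreducibleComponents.to_subtype
  haveI : Finite (_root_.ConnectedComponents M) := by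
    refine Finite.of_surjective (fun C : irreducibleComponents M => (C.2.1.1.some : _root_.ConnectedComponents M)) ?_
    intro c
    obtain ⟨y, rfl⟩ := ConnectedComponents.surjective_coe c
    let C : irreducibleComponents M := ⟨irreducibleComponent y, irreducibleComponent_mem_irreducibleComponents y⟩
    exact ⟨C, ConnectedComponents.coe_eq_coe'.2
      (irreducibleComponent_subset_connectedComponent C.2.1.1.some_mem)⟩
  let n := Nat.card (_root_.ConnectedComponents M)
  let ν := (Finite.equivFin (_root_.ConnectedComponents M)).symm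
  let P : Fin n → Set ↥(pullback g q) := fun i =>
    m.base '' ((ConnectedComponents.mk : M → _root_.ConnectedComponents M) ⁻¹' {ν i})
  have hPm : ∀ i, m.base ⁻¹' P i = ConnectedComponents.mk ⁻¹' {ν i} := fun i =>
    m.isEmbedding.injective.preimage_image _
  obtain ⟨O, hO⟩ := exists_split_of_generic p P
    (fun i => by rw [hv, ← hrange]; exact Set.image_subset_range _ _)
    (fun i => by
      rw [hv, ← hrange, ← Set.image_preimage_eq_inter_range, ← m.isEmbedding.isInducing.closure_eq_preimage_closure_image,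
        (isClosed_singleton.preimage ConnectedComponents.continuous_coe).closure_eq])
    (fun x hx => by
      obtain ⟨y, rfl⟩ := hrange.ge (show x ∈ p.base ⁻¹' {v} from hx.trans hv)
      exact ⟨ν.symm (ConnectedComponents.mk y), y, (ν.apply_symm_apply _).symm, rfl⟩)
    (fun i j x hi hj => by
      obtain ⟨a, ha, rfl⟩ := hi
      have hb : a ∈ ConnectedComponents.mk ⁻¹' {ν j} := (hPm j).le hj
      exact ν.injective ((ha : ConnectedComponents.mk a = ν i).symm.trans hb))
    (fun i K _ z hz => by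
      refine isConnected_preimage_of_range p σ sq (P i) (fun L _ τ => ?_) z
        (hz.trans (hv.trans (hσv _).symm))
      rw [hPm i]
      obtain ⟨x', hx'⟩ := ConnectedComponents.surjective_coe (ν i)
      rw [← hx', connectedComponents_preimage_singleton]
      obtain ⟨φ, rfl⟩ : ∃ φ : E →+* L, τ = Spec.map (CommRingCat.ofHom φ) :=
        ⟨(Spec.preimage τ).hom, (Spec.map_preimage τ).symm⟩
      letI : Algebra E L := φ.toAlgebra
      let C : irreducibleComponents X :=
        ⟨irreducibleComponent (Curv2.bcFst κ X E x'), irreducibleComponent_mem_irreducibleComponents _⟩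
      exact Groth.FBaseGeom.isConnected_preimage_component_level E x' (pt C)
        (irreducibleComponent_subset_connectedComponent (hpt C)) (fun z hz => hE C z hz) L)
  refine ⟨V, g, inferInstance, v, O, ?_, ?_, hv ▸ hO⟩
  · show g₀ u₀ = η
    exact hu₀
  · rintro _ ⟨w, rfl⟩
    exact hN w.2

end Groth.ZeroAcyclic.Constructible
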