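import Groth.Agent.ZeroAcyclic.Constructible.LocalBases
import Groth.Agent.EtaleShriek.BCSets
import Groth.Agent.S19554

/-!
Sheaves of sets with local bases are locally constant with finite values, and are stable under finite
limits.
-/

set_option autoImplicit false
set_option backward.isDefEq.respectTransparency.types false
set_option linter.style.haveILetI false

universe u

open CategoryTheory CategoryTheory.Limits AlgebraicGeometry Opposite

namespace Groth.ZeroAcyclic.Free

open Groth.EtaleBase (fiberPoint openObj openHom mem_topology_iff exists_fiber_of_point exists_geomPoint_lift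
  exists_fiber_lift geomPoint geomPoint_apply fiberPoint_map)
open Groth.DescentBase (shStalk shGerm shGerm_surjective shGerm_map shGerm_eq_iff shGerm_eq_iff_mem agreeSet
  isOpen_agreeSet map_eq_iff_range_subset)

variable {X : Scheme.{u}}

theorem SBij.res {G : EtDesc.Sh X} {U V : X.Etale} {M : Type*} {s : M → G.obj.obj (op U)}
    (h : SBij G U s) (g : V ⟶ U) : SBij G V (fun a => G.obj.map g.op (s a)) := fun Ω _ _ ξ t => by
  refine (congrArg Function.Bijective (funext fun a => ?_)).mpr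
    (h Ω _ _ ξ ((Scheme.pointSmallEtale ξ).fiber.map g t))
  exact (Scheme.pointSmallEtale ξ).toPresheafFiber_w_apply g t G.obj (s a)

set_option backward.isDefEq.respectTransparency false in
/-- Sections giving the stalks trivialize the restriction. -/
theorem nonempty_iso_over {G : EtDesc.Sh X} {U : X.Etale} {n : ℕ} {s : Fin n → G.obj.obj (op U)}
    (h : SBij G U s) :
    Nonempty (G.over U ≅ (CohProp.constSh X (ULift.{u + 1} (Fin n))).over U) := by
  let M : Type (u + 1) := ULift.{u + 1} (Fin n)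
  let P : (Over U)ᵒᵖ ⥤ Type (u + 1) := (Over.forget U).op ⋙ (Functor.const X.Etaleᵒᵖ).obj M
  let a : P ⟶ (G.over U).obj :=
    { app := fun Y => TypeCat.ofHom fun i => G.obj.map Y.unop.hom.op (s i.down)
      naturality := fun Y Y' φ => by
        ext i
        show G.obj.map Y'.unop.hom.op (s i.down) =
          G.obj.map φ.unop.left.op (G.obj.map Y.unop.hom.op (s i.down))
        rw [← Functor.map_comp_apply, ← op_comp, Over.w φ.unop] }
  let b : P ⟶ ((CohProp.constSh X M).over U).obj := Functor.whiskerLeft (Over.forget U).op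
    (CategoryTheory.toSheafify X.smallEtaleTopology ((Functor.const X.Etaleᵒᵖ).obj M))
  haveI : Presheaf.IsLocallyInjective (X.smallEtaleTopology.over U) b :=
    Groth.Agent.S19554.isLocallyInjective_over U _
  haveI : Presheaf.IsLocallySurjective (X.smallEtaleTopology.over U) b :=
    Groth.Agent.S19554.isLocallySurjective_over U _
  haveI : Presheaf.IsLocallyInjective (X.smallEtaleTopology.over U) a := by
    refine ⟨fun {Y} i j e => ?_⟩
    rw [GrothendieckTopology.mem_over_iff, mem_topology_iff]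
    intro v
    obtain ⟨t, -⟩ := exists_geomPoint_lift Y.unop.left v
    have hij : i = j := ULift.down_injective (((h.res Y.unop.hom) _ _ _ _ t).1 (congrArg _ e))
    refine ⟨_, 𝟙 _, v, (Sieve.overEquiv_iff _ _).2 ?_, rfl⟩
    show P.map _ i = P.map _ j
    rw [hij]
  haveI : Presheaf.IsLocallySurjective (X.smallEtaleTopology.over U) a := by
    refine ⟨fun {Y} σ => ?_⟩
    rw [GrothendieckTopology.mem_over_iff, mem_topology_iff]
    intro v
    obtain ⟨t, ht⟩ := exists_geomPoint_lift Y.left v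
    obtain ⟨i, hi⟩ := (h.res Y.hom _ _ _ _ t).2 (shGerm _ G Y.left t σ)
    obtain ⟨W, k, w, hw, he⟩ := (shGerm_eq_iff _ G Y.left t _ σ).1 hi
    subst hw
    refine ⟨W, k, fiberPoint _ w, (Sieve.overEquiv_iff _ _).2 ⟨ULift.up i, ?_⟩,
      (fiberPoint_map _ k w).symm.trans ht⟩
    show G.obj.map (k ≫ Y.hom).op (s i) = G.obj.map k.op σ
    rw [op_comp, Functor.map_comp_apply]
    exact he
  exact Groth.Agent.S19554.nonempty_iso_of_locallyBijective a b

/-- Sheaves with local bases are locally constant with finite values. -/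
theorem isFinLocConstSet_of_slc {G : EtDesc.Sh X} (h : SLC G) : CohProp.IsFinLocConstSet G := by
  choose U hU n s hs using h
  exact ⟨X, U, fun x => ⟨x, hU x⟩, fun x =>
    ⟨ULift.{u + 1} (Fin (n x)), inferInstance, nonempty_iso_over (hs x)⟩⟩

theorem isLocConstSet_of_slc {G : EtDesc.Sh X} (h : SLC G) : CohProp.IsLocConstSet G := by
  obtain ⟨ι, U, hU, hi⟩ := isFinLocConstSet_of_slc h
  exact ⟨ι, U, hU, fun i => by obtain ⟨M, -, e⟩ := hi i; exact ⟨M, e⟩⟩

theorem slc_of_iso {G H : EtDesc.Sh X} (e : G ≅ H) (h : SLC G) : SLC H := by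
  intro x
  obtain ⟨U, hU, n, s, hs⟩ := h x
  refine ⟨U, hU, n, fun a => e.hom.hom.app (op U) (s a), fun Ω _ _ ξ t => ?_⟩
  refine (congrArg Function.Bijective (funext fun a => ?_)).mpr
    (((isIso_iff_bijective ((shStalk ξ).map e.hom)).1 inferInstance).comp (hs Ω _ _ ξ t))
  exact (shGerm_map ξ e.hom U t (s a)).symm

set_option maxHeartbeats 1000000 in
/-- Finite limits of sheaves with local bases have local bases. -/
theorem slc_limit {J : Type} [SmallCategory J] [FinCategory J] {K : J ⥤ EtDesc.Sh X} (c : Cone K)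
    (hc : IsLimit c) (hK : ∀ j, SLC (K.obj j)) : SLC c.pt := by
  classical
  intro x
  choose U hU n s hs using fun j => hK j x
  let ξ := geomPoint x
  let Φ := Scheme.pointSmallEtale ξ
  have ht : ∀ j, ∃ t : Φ.fiber.obj (U j), True := fun j => by
    obtain ⟨y, hy⟩ := hU j
    exact ⟨(exists_fiber_of_point ξ (U j) y (hy.trans (geomPoint_apply x _).symm)).choose, trivial⟩
  choose t _ using ht
  -- a common neighbourhood
  obtain ⟨⟨W₀, t₀⟩, hW₀⟩ := IsCofiltered.inf_objs_exists
    (Finset.univ.image fun j => Functor.elementsMk Φ.fiber (U j) (t j))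
  let g : ∀ j : J, Functor.elementsMk Φ.fiber W₀ t₀ ⟶ Functor.elementsMk Φ.fiber (U j) (t j) := fun j =>
    (hW₀ (Finset.mem_image.2 ⟨j, Finset.mem_univ j, rfl⟩)).some
  let r₀ : ∀ j, Fin (n j) → (K.obj j).obj.obj (op W₀) := fun j a => (K.obj j).obj.map (g j).1.op (s j a)
  have hr₀ : ∀ j, SBij (K.obj j) W₀ (r₀ j) := fun j => (hs j).res (g j).1
  -- the maps of indices
  have hφ : ∀ (i j : J) (φ : i ⟶ j) (a : Fin (n i)), ∃ b, shGerm ξ (K.obj j) W₀ t₀ (r₀ j b) =
      shGerm ξ (K.obj j) W₀ t₀ ((K.map φ).hom.app (op W₀) (r₀ i a)) := fun i j φ a =>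
    (hr₀ j _ _ _ ξ t₀).2 _
  choose f hf using hφ
  let A : (Σ i : J, Σ j : J, (i ⟶ j) × Fin (n i)) → W₀.left.Opens := fun p =>
    ⟨agreeSet (K.obj p.2.1) W₀ (r₀ p.2.1 (f p.1 p.2.1 p.2.2.1 p.2.2.2))
      ((K.map p.2.2.1).hom.app (op W₀) (r₀ p.1 p.2.2.2)), isOpen_agreeSet _ _ _ _⟩
  let O : W₀.left.Opens := ⟨⋂ p, (A p : Set W₀.left), isOpen_iInter_of_finite fun p => (A p).2⟩
  have hzO : fiberPoint ξ t₀ ∈ O := Set.mem_iInter.2 fun p =>
    (shGerm_eq_iff_mem ξ _ W₀ _ _ t₀).1 (hf p.1 p.2.1 p.2.2.1 p.2.2.2)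
  let W := openObj W₀ O
  let k : W ⟶ W₀ := openHom W₀ O
  let r : ∀ j, Fin (n j) → (K.obj j).obj.obj (op W) := fun j a => (K.obj j).obj.map k.op (r₀ j a)
  have hr : ∀ j, SBij (K.obj j) W (r j) := fun j => (hr₀ j).res k
  have hnat : ∀ (i j : J) (φ : i ⟶ j) (a : Fin (n i)),
      (K.map φ).hom.app (op W) (r i a) = r j (f i j φ a) := fun i j φ a => by
    refine (NatTrans.naturality_apply (K.map φ).hom k.op (r₀ i a)).trans ?_
    refine ((map_eq_iff_range_subset (K.obj j) k (r₀ j (f i j φ a)) _).2 ?_).symm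
    rintro _ ⟨z, rfl⟩
    exact Set.mem_iInter.1 z.2 ⟨i, j, φ, a⟩
  -- compatible families of indices
  let L := {a : ∀ j, Fin (n j) // ∀ (i j : J) (φ : i ⟶ j), f i j φ (a i) = a j}
  let Γ : EtDesc.Sh X ⥤ Type (u + 1) :=
    sheafToPresheaf _ _ ⋙ (evaluation X.Etaleᵒᵖ (Type (u + 1))).obj (op W)
  let eW := Types.isLimitEquivSections (isLimitOfPreserves Γ hc)
  let σ : L → c.pt.obj.obj (op W) := fun a => eW.symm
    ⟨fun j => r j (a.1 j), fun {i j} φ => (hnat i j φ (a.1 i)).trans (congrArg (r j) (a.2 i j φ))⟩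
  have hσ : ∀ a j, (c.π.app j).hom.app (op W) (σ a) = r j (a.1 j) := fun a j =>
    Types.isLimitEquivSections_symm_apply (isLimitOfPreserves Γ hc) _ j
  refine ⟨W, ⟨⟨fiberPoint ξ t₀, hzO⟩, ?_⟩, _, fun a => σ ((Fintype.equivFin L).symm a), fun Ω _ _ η w => ?_⟩
  · exact (Groth.EtaleBase.hom_fiberPoint ξ t₀).trans (geomPoint_apply x _)
  suffices h : Function.Bijective fun a : L => shGerm η c.pt W w (σ a) from
    h.comp (Fintype.equivFin L).symm.bijective
  let eS := Types.isLimitEquivSections (isLimitOfPreserves (shStalk η) hc)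
  refine (Function.Bijective.of_comp_iff' eS.bijective _).1 ?_
  have he : ∀ a j, (eS (shGerm η c.pt W w (σ a))).1 j = shGerm η (K.obj j) W w (r j (a.1 j)) := fun a j => by
    refine (Types.isLimitEquivSections_apply (isLimitOfPreserves (shStalk η) hc) j _).trans ?_
    refine (shGerm_map η (c.π.app j) W w (σ a)).trans ?_
    rw [hσ]
  constructor
  · intro a b hab
    refine Subtype.ext (funext fun j => (hr j Ω _ _ η w).1 ?_)
    exact (he a j).symm.trans ((congrArg (fun z => z.1 j) hab).trans (he b j))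
  · intro z
    choose a ha using fun j => (hr j Ω _ _ η w).2 (z.1 j)
    refine ⟨⟨a, fun i j φ => (hr j Ω _ _ η w).1 ?_⟩, Subtype.ext (funext fun j => (he _ j).trans (ha j))⟩
    show shGerm η (K.obj j) W w (r j (f i j φ (a i))) = shGerm η (K.obj j) W w (r j (a j))
    rw [← hnat i j φ (a i), ← shGerm_map]
    have hi : shGerm η (K.obj i) W w (r i (a i)) = z.1 i := ha i
    have hj : shGerm η (K.obj j) W w (r j (a j)) = z.1 j := ha j
    rw [hi, hj]
    exact z.2 φ

/-- Equalizers of sheaves with local bases have local bases. -/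
theorem slc_of_fork {F G H : EtDesc.Sh X} {s t : G ⟶ H} (ι : F ⟶ G) (hι : ι ≫ s = ι ≫ t)
    (hc : IsLimit (Fork.ofι ι hι)) (hG : SLC G) (hH : SLC H) : SLC F :=
  slc_limit (Fork.ofι ι hι) hc (fun j => match j with
    | .zero => hG
    | .one => hH)

end Groth.ZeroAcyclic.Free
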