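import Groth.Agent.ZeroAcyclic.Proper.ConstBasis
import Groth.Agent.DescentBase.SepClosedSite
import Groth.Agent.DescentBase.BaseChange0Sh
import Groth.Agent.ZeroAcyclic.Constructible.LocSys

/-!
Pullback of sections of a sheaf with constant stalks along maps bijective on clopen subsets, and germs of
sections of its direct images.
-/

set_option autoImplicit false
set_option backward.isDefEq.respectTransparency.types false
set_option linter.style.haveILetI false

universe u

open CategoryTheory CategoryTheory.Limits AlgebraicGeometry Opposite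

namespace Groth.ZeroAcyclic

open Groth.EtaleBase (fiberPoint geomPoint geomPoint_apply openObj openHom bcSq bcSq_fst pushLift fiber_bc_ext)
open Groth.EtaleShriek.FlatConnBC
open Groth.EtaleShriek.BCSets (sg sg_res)
open Groth.DescentBase (shStalk shStalkPullIso shStalkPullIso_germ shGerm shGerm_eq_iff shGerm_surjective
  shSection_ext shGerm_eq_iff_mem agreeSet baseChange0_unit)

variable {A X : Scheme.{u}} {G : EtDesc.Sh X} {ι : Type u} {c : ι → G.obj.obj (op (EtCoh.top X))}

section unBij

variable (hc : ConstBasis G c) (m : A ⟶ X) {B : A.Etale} {P : X.Etale} (k : B ⟶ (EtCoh.bc m).obj P)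

include hc in
/-- Pulled back sections on objects whose underlying spaces have the same clopen subsets. -/
theorem bijective_map_un [Finite ι]
    (hk : Groth.HensPair.ClopenBij (k.left ≫ pullback.fst P.hom m).base) :
    Function.Bijective fun y : G.obj.obj (op P) =>
      ((EtDesc.pullSh m).obj G).obj.map k.op (un m G P y) := by
  let κ : B.left ⟶ P.left := k.left ≫ pullback.fst P.hom m
  have hinj := hk.inj κ.continuous
  refine ⟨fun y y' he => ?_, fun x => ?_⟩
  · refine shSection_ext G P y y' fun z => ?_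
    refine (hinj (agreeSet G P y y') Set.univ (isClopen_agreeSet hc P y y') isClopen_univ ?_).ge (Set.mem_univ z)
    refine Set.eq_univ_of_forall fun b => ?_
    let p := geomPoint (X := B.left) b
    have r₁ := rel_map (e := m) (F := G) k y p
    have r₂ := rel_map (e := m) (F := G) k y' p
    rw [show ((EtDesc.pullSh m).obj G).obj.map k.op (un m G P y') =
      ((EtDesc.pullSh m).obj G).obj.map k.op (un m G P y) from he.symm] at r₂
    have h := r₁.sg_eq r₂ ((p ≫ κ) ≫ P.hom) rfl rfl
    show κ.base b ∈ agreeSet G P y y'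
    refine Set.mem_of_eq_of_mem ?_ ((shGerm_eq_iff_mem ((p ≫ κ) ≫ P.hom) G P y y' (Over.homMk (p ≫ κ) rfl)).1 h)
    exact (congrArg κ (geomPoint_apply b default)).symm.trans (Scheme.Hom.comp_apply p κ default).symm
  · have hc' := hc.pull m
    choose Bc hB _ using fun i => hk (part (c := pullC m c) B x i) (isClopen_part hc' _ x i)
    have hBc : ∀ i, IsClopen (Bc i) := fun i => (hB i).1
    have hBe : ∀ i, κ.base ⁻¹' Bc i = part (c := pullC m c) B x i := fun i => (hB i).2
    have hdisj : ∀ i j, i ≠ j → Bc i ∩ Bc j = ∅ := fun i j hij => by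
      refine hinj _ _ ((hBc i).inter (hBc j)) isClopen_empty ?_
      refine Set.eq_empty_of_forall_notMem (s := κ.base ⁻¹' (Bc i ∩ Bc j)) ?_ |>.trans Set.preimage_empty.symm
      intro a ha
      exact hij ((existsUnique_part hc' _ x a).unique ((hBe i).le ha.1) ((hBe j).le ha.2))
    have hcov : (⋃ i, Bc i) = Set.univ := by
      refine hinj _ _ (isClopen_iUnion_of_finite hBc) isClopen_univ ?_
      refine Set.eq_univ_of_forall fun a => ?_
      obtain ⟨i, hi, -⟩ := existsUnique_part hc' _ x a
      exact Set.mem_iUnion.2 ⟨i, (hBe i).ge hi⟩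
    let O : ι → P.left.Opens := fun i => ⟨Bc i, (hBc i).isOpen⟩
    let W : ι → X.Etale := fun i => openObj P (O i)
    let b : ∀ i, W i ⟶ P := fun i => openHom P (O i)
    obtain ⟨y, hy⟩ := exists_glue_points G W b (fun z => by
      obtain ⟨i, hi⟩ := Set.mem_iUnion.1 (hcov.ge (Set.mem_univ z))
      exact ⟨i, (⟨z, hi⟩ : ↥(O i)), rfl⟩) (fun i => G.obj.map (b i).op (G.obj.map (toTop P).op (c i)))
      (fun i j K _ _ li lj h he => by
        obtain rfl : i = j := by
          by_contra hij
          have h1 : (li ≫ (b i).left) default ∈ Bc i := by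
            rw [Scheme.Hom.comp_apply]; exact (li default).2
          have h2 : (li ≫ (b i).left) default ∈ Bc j := by
            rw [he, Scheme.Hom.comp_apply]; exact (lj default).2
          exact (hdisj i j hij).le ⟨h1, h2⟩
        obtain rfl : li = lj := (cancel_mono (O i).ι).1 he
        rfl)
    refine ⟨y, shSection_ext _ B _ x fun a => ?_⟩
    let p := geomPoint (X := B.left) a
    have hp : p default = a := geomPoint_apply a default
    obtain ⟨i, hi, -⟩ := existsUnique_part hc' B x a
    let ξ := p ≫ B.hom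
    have hx := (mem_part_iff (c := pullC m c) B x i ξ p rfl).1 (hp.symm ▸ hi)
    let n := p ≫ κ
    have hn : n default ∈ O i := by
      exact Set.mem_of_eq_of_mem ((Scheme.Hom.comp_apply p κ default).trans (congrArg κ hp)) ((hBe i).ge hi)
    let Oi : P.left.Opens := O i
    let jO : Oi.toScheme ⟶ P.left := Oi.ι
    haveI : IsOpenImmersion jO := inferInstanceAs (IsOpenImmersion Oi.ι)
    let l₀ : Spec (CommRingCat.of _) ⟶ Oi.toScheme := IsOpenImmersion.lift jO n (by
      refine (Scheme.Opens.range_ι Oi).symm ▸ ?_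
      rintro _ ⟨q, rfl⟩
      rwa [Subsingleton.elim q default])
    let l : Spec (CommRingCat.of _) ⟶ (W i).left := l₀
    have hl : l ≫ (b i).left = n := IsOpenImmersion.lift_fac jO n _
    obtain ⟨hn', hr⟩ := rel_map (e := m) (F := G) k y p
    have hn₂ : n ≫ P.hom = ξ ≫ m :=
      (congrArg (· ≫ P.hom) (rfl : n = p ≫ k.left ≫ pullback.fst P.hom m)).trans hn'
    have hw : l ≫ (W i).hom = ξ ≫ m :=
      (congrArg (l ≫ ·) (MorphismProperty.Over.w (b i)).symm).trans
        ((Category.assoc _ _ _).symm.trans ((congrArg (· ≫ P.hom) hl).trans hn₂))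
    have hy' : sg G (ξ ≫ m) P n hn₂ y = sg G (ξ ≫ m) (EtCoh.top X) (ξ ≫ m) (Category.comp_id _) (c i) := by
      rw [← sg_res G _ (b i) l hw n hn₂ hl y, hy i, sg_res G _ (b i) l hw n hn₂ hl]
      exact sg_toTop (G := G) (c := c) P i (ξ ≫ m) n hn₂
    have hgerm : sg ((EtDesc.pullSh m).obj G) ξ B p rfl (((EtDesc.pullSh m).obj G).obj.map k.op (un m G P y)) =
        sg ((EtDesc.pullSh m).obj G) ξ B p rfl x := by
      refine hr.trans ?_
      refine ((stalkPullIso_sg m G ξ P n hn₂ y).symm.trans ?_)
      rw [hy', hx, sg_pullC]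
    exact Set.mem_of_eq_of_mem hp.symm ((shGerm_eq_iff_mem ξ _ B _ x (Over.homMk p rfl)).1 hgerm)

end unBij

/-- Global sections of a sheaf on a separably closed point are its stalk. -/
theorem bijective_germ_top {Ω : Type u} [Field Ω] [IsSepClosed Ω] (H : EtDesc.Sh (Spec (CommRingCat.of Ω)))
    (t : (Scheme.pointSmallEtale (𝟙 (Spec (CommRingCat.of Ω)))).fiber.obj (EtCoh.top (Spec (CommRingCat.of Ω)))) :
    Function.Bijective (shGerm (𝟙 (Spec (CommRingCat.of Ω))) H (EtCoh.top _) t) := by
  refine ⟨fun a b hab => shSection_ext H (EtCoh.top _) a b fun z => ?_, fun z => ?_⟩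
  · exact Set.mem_of_eq_of_mem (Subsingleton.elim (α := Spec (CommRingCat.of Ω)) _ _)
      ((shGerm_eq_iff_mem _ H (EtCoh.top _) a b t).1 hab)
  · obtain ⟨U, s, σ, rfl⟩ := shGerm_surjective _ H z
    let r : EtCoh.top (Spec (CommRingCat.of Ω)) ⟶ U :=
      MorphismProperty.Over.homMk s.left ((Over.w s).trans rfl)
    refine ⟨H.obj.map r.op σ, ?_⟩
    refine ((Scheme.pointSmallEtale (𝟙 _)).toPresheafFiber_w_apply r t H.obj σ).trans ?_
    refine congrArg (fun t' => shGerm _ H U t' σ) (Over.OverMorphism.ext ?_)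
    have ht : t.left = 𝟙 _ := (Category.comp_id t.left).symm.trans (Over.w t)
    show t.left ≫ s.left = s.left
    rw [ht]
    exact Category.id_comp _

variable {Z S : Scheme.{u}} {q : Z ⟶ S}

/-- Germs of sections of the direct image of a sheaf with constant stalks. -/
theorem bijective_germ_push {C : EtDesc.Sh Z} {c : ι → C.obj.obj (op (EtCoh.top Z))} [Finite ι]
    (hc : ConstBasis C c) (hq : CohProp.IsCohPropSet (𝟙 S) q C) (V : S.Etale)
    {Ω : Type u} [Field Ω] [IsSepClosed Ω] (ξ : Spec (CommRingCat.of Ω) ⟶ S)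
    (t : (Scheme.pointSmallEtale ξ).fiber.obj V)
    (hV : Groth.HensPair.ClopenBij
      (pullback.fst (pullback.fst V.hom q) (t.left : Spec (CommRingCat.of Ω) ⟶ V.left)).base) :
    Function.Bijective fun y : C.obj.obj (op ((EtCoh.bc q).obj V)) =>
      shGerm ξ ((EtDesc.pushSh q).obj C) V t y := by
  obtain ⟨g, rfl⟩ : ∃ g, 𝟙 (Spec (CommRingCat.of Ω)) ≫ g = ξ := ⟨ξ, Category.id_comp ξ⟩
  let T := Spec (CommRingCat.of Ω)
  let τ : T ⟶ V.left := t.left
  have hτ : τ ≫ V.hom = g := (Over.w t).trans (Category.id_comp g)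
  let P := (EtCoh.bc q).obj V
  let p₁ := pullback.fst V.hom q
  let h : pullback p₁ τ ⟶ Z := pullback.fst p₁ τ ≫ pullback.snd V.hom q
  let f' : pullback p₁ τ ⟶ T := pullback.snd p₁ τ
  have sq : IsPullback h f' q g := by
    have h1 := (IsPullback.of_hasPullback p₁ τ).paste_horiz (IsPullback.of_hasPullback V.hom q).flip
    rwa [hτ] at h1
  haveI := hq g g (𝟙 T) h f' IsPullback.of_id_snd sq
  let u₀ : EtCoh.top T ⟶ (EtCoh.bc g).obj V :=
    MorphismProperty.Over.homMk (pullback.lift τ (𝟙 T) (hτ.trans (Category.id_comp g).symm))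
      (pullback.lift_snd _ _ _)
  let k := (EtCoh.bc f').map u₀ ≫ bcSq q g f' h sq.w V
  let H := (EtDesc.pullSh g).obj ((EtDesc.pushSh q).obj C)
  let t₀ : (Scheme.pointSmallEtale (𝟙 T)).fiber.obj (EtCoh.top T) := Over.homMk (𝟙 T) (Category.comp_id _)
  -- to the global sections over the geometric point
  have hst : ∀ y : C.obj.obj (op P),
      (shStalkPullIso g (𝟙 T)).hom.app _ (shGerm (𝟙 T ≫ g) ((EtDesc.pushSh q).obj C) V t y) =
        shGerm (𝟙 T) H (EtCoh.top T) t₀ (H.obj.map u₀.op (un g ((EtDesc.pushSh q).obj C) V y)) := fun y => by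
    rw [shStalkPullIso_germ]
    refine Eq.trans ?_ ((Scheme.pointSmallEtale (𝟙 T)).toPresheafFiber_w_apply u₀ t₀ H.obj _).symm
    refine congrArg (fun t' => shGerm (𝟙 T) H _ t' _) (fiber_bc_ext g V (𝟙 T) _ _ ?_)
    refine (pullback.lift_fst _ _ _).trans ?_
    exact ((Category.assoc _ _ _).trans ((congrArg (𝟙 T ≫ ·) (pullback.lift_fst _ _ _)).trans
      (Category.id_comp τ))).symm
  have hiso : Function.Bijective ((shStalkPullIso g (𝟙 T)).hom.app ((EtDesc.pushSh q).obj C)) :=
    (isIso_iff_bijective _).1 inferInstance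
  refine (Function.Bijective.of_comp_iff' hiso _).1 ?_
  refine (congrArg Function.Bijective (funext hst)).mpr ((bijective_germ_top H t₀).comp ?_)
  -- base change
  have hbc : Function.Bijective ((EtBC.baseChange0Sh q g f' h sq.w C).hom.app (op (EtCoh.top T))) :=
    (isIso_iff_bijective _).1 (inferInstanceAs (IsIso (((sheafToPresheaf _ _).map
      (EtBC.baseChange0Sh q g f' h sq.w C)).app (op (EtCoh.top T)))))
  refine (Function.Bijective.of_comp_iff' hbc _).1 ?_
  have hbc' : ∀ y : C.obj.obj (op P), (EtBC.baseChange0Sh q g f' h sq.w C).hom.app (op (EtCoh.top T))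
      (H.obj.map u₀.op (un g ((EtDesc.pushSh q).obj C) V y)) =
      ((EtDesc.pullSh h).obj C).obj.map k.op (un h C P y) := fun y => by
    refine (NatTrans.naturality_apply (EtBC.baseChange0Sh q g f' h sq.w C).hom u₀.op _).trans ?_
    refine (congrArg (((EtDesc.pushSh f').obj ((EtDesc.pullSh h).obj C)).obj.map u₀.op)
      (baseChange0_unit q g f' h sq.w C V y)).trans ?_
    show ((EtDesc.pullSh h).obj C).obj.map ((EtCoh.bc f').map u₀).op _ = _
    rw [← Functor.map_comp_apply, ← op_comp]
  refine (congrArg Function.Bijective (funext hbc')).mpr (bijective_map_un hc h k ?_)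
  -- the underlying map
  let e : pullback (𝟙 T) f' ⟶ pullback p₁ τ := pullback.snd (𝟙 T) f'
  haveI : IsIso e := inferInstance
  let κ : pullback (𝟙 T) f' ⟶ pullback V.hom q := k.left ≫ pullback.fst P.hom h
  have hκ : κ = e ≫ pullback.fst p₁ τ := by
    refine pullback.hom_ext ?_ ?_
    · have e1 : k.left ≫ pullback.fst P.hom h ≫ pullback.fst V.hom q =
          ((EtCoh.bc f').map u₀).left ≫ (bcSq q g f' h sq.w V).left ≫ pullback.fst P.hom h ≫
            pullback.fst V.hom q := Category.assoc _ _ _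
      have e2 : ((EtCoh.bc f').map u₀).left ≫ pullback.fst ((EtCoh.bc g).obj V).hom f' =
          pullback.fst (𝟙 T) f' ≫ u₀.left := pullback.lift_fst _ _ _
      have e3 : u₀.left ≫ pullback.fst V.hom g = τ := pullback.lift_fst _ _ _
      have e4 : pullback.fst (𝟙 T) f' = pullback.snd (𝟙 T) f' ≫ f' :=
        (Category.comp_id _).symm.trans pullback.condition
      refine (Category.assoc _ _ _).trans (e1.trans ?_)
      refine (congrArg (((EtCoh.bc f').map u₀).left ≫ ·) (bcSq_fst q g f' h sq.w V)).trans ?_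
      refine ((Category.assoc _ _ _).symm.trans (congrArg (· ≫ pullback.fst V.hom g) e2)).trans ?_
      refine (Category.assoc _ _ _).trans ((congrArg (pullback.fst (𝟙 T) f' ≫ ·) e3).trans ?_)
      rw [e4, Category.assoc, Category.assoc]
      exact congrArg (e ≫ ·) pullback.condition.symm
    · have hw : k.left ≫ pullback.snd P.hom h = ((EtCoh.bc f').obj (EtCoh.top T)).hom :=
        MorphismProperty.Over.w k
      refine (Category.assoc _ _ _).trans ((congrArg (k.left ≫ ·) pullback.condition).trans ?_)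
      refine ((Category.assoc _ _ _).symm.trans (congrArg (· ≫ h) hw)).trans ?_
      exact (Category.assoc e _ _).symm
  show Groth.HensPair.ClopenBij κ.base
  rw [hκ]
  exact hV.comp (Scheme.Hom.continuous _) (Groth.HensPair.ClopenBij.homeomorph e.homeomorph)
    (Scheme.Hom.continuous _)

/-- Finitely many sections on a scheme covered by finitely many preconnected subsets. -/
theorem finite_sections [Finite ι] (hc : ConstBasis G c) (P : X.Etale) {n : ℕ} (D : Fin n → Set P.left)
    (hD : ∀ i, _root_.IsPreconnected (D i)) (hcov : ∀ x, ∃ i, x ∈ D i) : Finite (G.obj.obj (op P)) := by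
  have hf : ∀ (y : G.obj.obj (op P)) (i : Fin n), ∃ j : Option ι,
      ∀ z ∈ D i, ∃ j₀, j = some j₀ ∧ z ∈ part (c := c) P y j₀ := fun y i => by
    rcases (D i).eq_empty_or_nonempty with h | ⟨z₀, hz₀⟩
    · exact ⟨none, fun z hz => absurd hz (by simp [h])⟩
    · obtain ⟨j, hj, -⟩ := existsUnique_part hc P y z₀
      exact ⟨some j, fun z hz => ⟨j, rfl, (hD i).subset_isClopen (isClopen_part hc P y j) ⟨z₀, hz₀, hj⟩ hz⟩⟩
  choose j hj using hf
  refine Finite.of_injective (β := Fin n → Option ι) j fun y y' he => shSection_ext G P y y' fun z => ?_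
  obtain ⟨i, hi⟩ := hcov z
  obtain ⟨a, ha, hza⟩ := hj y i z hi
  obtain ⟨b, hb, hzb⟩ := hj y' i z hi
  obtain rfl : a = b := Option.some.inj (ha.symm.trans ((congrFun he i).trans hb))
  let p := geomPoint (X := P.left) z
  have hp : p default = z := geomPoint_apply z default
  have h1 := (mem_part_iff (c := c) P y a (p ≫ P.hom) p rfl).1 (hp.symm ▸ hza)
  have h2 := (mem_part_iff (c := c) P y' a (p ≫ P.hom) p rfl).1 (hp.symm ▸ hzb)
  exact Set.mem_of_eq_of_mem hp.symm
    ((shGerm_eq_iff_mem (p ≫ P.hom) G P y y' (Over.homMk p rfl)).1 (h1.trans h2.symm))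

end Groth.ZeroAcyclic
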