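import Groth.Agent.ZeroAcyclic.Constructible.Proper
import Groth.Agent.ZeroAcyclic.Constructible.UnBij
import Groth.Agent.ZeroAcyclic.Constructible.Chart

/-!
Generic local constancy of direct images of constructible sheaves of sets.
-/

set_option autoImplicit false
set_option backward.isDefEq.respectTransparency.types false
set_option linter.style.haveILetI false

universe u

open CategoryTheory CategoryTheory.Limits AlgebraicGeometry Opposite

namespace Groth.ZeroAcyclic.Constructible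

open Groth.ZeroAcyclic.Free Groth.ZeroAcyclic.BCFormal
open Groth.EtaleShriek.BCForget (U0)

variable {X S Z : Scheme.{u}}

/-- Propriety relative to an isomorphic base. -/
theorem isCohPropSet_id_of_isIso {Y S' : Scheme.{u}} (a : Y ⟶ S') [IsIso a] {g : Z ⟶ Y} {C : EtDesc.Sh Z}
    (h : CohProp.IsCohPropSet a g C) : CohProp.IsCohPropSet (𝟙 Y) g C := by
  intro S₁ Y₁ X₁ p γ q₁ η φ hgp sq
  refine h (p ≫ a) γ q₁ η φ ?_ sq
  have h2 : IsPullback p (𝟙 S₁) a (p ≫ a) := IsPullback.of_vert_isIso ⟨(Category.id_comp _).symm⟩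
  have h1 := hgp.paste_vert h2
  rwa [Category.comp_id, Category.id_comp] at h1

/-- The restriction of the identity. -/
theorem isCohPropSet_id_restrict (U : S.Opens) {g : Z ⟶ ((𝟙 S) ⁻¹ᵁ U : Scheme.{u})} {C : EtDesc.Sh Z}
    (h : CohProp.IsCohPropSet ((𝟙 S) ∣_ U) g C) :
    CohProp.IsCohPropSet (𝟙 ((𝟙 S) ⁻¹ᵁ U : Scheme.{u})) g C :=
  haveI : IsIso ((𝟙 S) ∣_ U) := inferInstance
  isCohPropSet_id_of_isIso _ h

/-- The points near which a morphism splits étale locally. -/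
def SplitAt (q : Z ⟶ S) (x : S) : Prop :=
  ∃ (V : Scheme.{u}) (g : V ⟶ S) (_ : Etale g) (v : V) (O : V.Opens) (w : V),
    w ∈ O ∧ g w = x ∧ Split (pullback.fst g q) v O

/-- A dense open where a morphism splits étale locally. -/
theorem exists_dense_splitAt [IsNoetherian S] (q : Z ⟶ S) [LocallyOfFiniteType q] [QuasiCompact q] :
    ∃ U : S.Opens, Dense (U : Set S) ∧ ∀ x ∈ U, SplitAt q x := by
  refine ⟨⟨{x | SplitAt q x}, ?_⟩, ?_, fun x hx => hx⟩
  · refine isOpen_iff_forall_mem_open.2 fun x ⟨V, g, hg, v, O, w, hw, hwx, hs⟩ => ?_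
    exact ⟨g '' (O : Set V), fun y ⟨w', hw', e⟩ => ⟨V, g, hg, v, O, w', hw', e, hs⟩,
      g.isOpenMap _ O.2, w, hw, hwx⟩
  · intro x
    let η := (isIrreducible_irreducibleComponent (x := x)).genericPoint
    have hη : IsGenericPoint η (irreducibleComponent x) :=
      (isIrreducible_irreducibleComponent (x := x)).isGenericPoint_genericPoint isClosed_irreducibleComponent
    have hmax : ∀ y, y ⤳ η → y = η := fun y hy => by
      have hcl : irreducibleComponent x ⊆ closure {y} :=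
        hη.def ▸ closure_minimal (Set.singleton_subset_iff.2 hy.mem_closure) isClosed_closure
      have e := (irreducibleComponent_property x).2.2 (closure {y}) isIrreducible_singleton.closure.isPreirreducible hcl
      exact IsGenericPoint.eq (show IsGenericPoint y (closure {y}) from rfl)
        (e.symm ▸ hη : IsGenericPoint η (closure {y}))
    obtain ⟨V, g, hg, v, O, hgv, -, hs⟩ := exists_split q η hmax ⊤ trivial
    exact (hη.specializes mem_irreducibleComponent).mem_closed isClosed_closure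
      (subset_closure ⟨V, g, hg, v, O, v, hs.1, hgv, hs⟩)

/-- The direct image of a sheaf with constant stalks has local bases over an open where the morphism splits
and is cohomologically proper. -/
theorem slc_push_const (q : Z ⟶ S) {C : EtDesc.Sh Z} {ι : Type u} [Finite ι]
    {c : ι → C.obj.obj (op (EtCoh.top Z))} (hc : ConstBasis C c) (U : S.Opens)
    (hprop : CohProp.IsCohPropSet (𝟙 (U : Scheme.{u})) (q ∣_ U) ((EtDesc.pullSh (q ⁻¹ᵁ U).ι).obj C))
    (hsplit : ∀ x ∈ U, SplitAt q x) :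
    SLC ((EtDesc.pushSh (q ∣_ U)).obj ((EtDesc.pullSh (q ⁻¹ᵁ U).ι).obj C)) := by
  intro x
  obtain ⟨V, g, hg, v, O, w, hw, hwx, hs⟩ := hsplit x.1 x.2
  let N : V.Opens := O ⊓ g ⁻¹ᵁ U
  have hwN : w ∈ N := ⟨hw, show g w ∈ U from hwx.symm ▸ x.2⟩
  have hr : Set.range (N.ι ≫ g) ⊆ Set.range U.ι := by
    rintro _ ⟨z, rfl⟩
    rw [Scheme.Opens.range_ι]
    exact z.2.2
  let gU : (N : Scheme.{u}) ⟶ (U : Scheme.{u}) := IsOpenImmersion.lift U.ι (N.ι ≫ g) hr
  have hgU : gU ≫ U.ι = N.ι ≫ g := IsOpenImmersion.lift_fac _ _ _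
  haveI : Etale (gU ≫ U.ι) := by rw [hgU]; infer_instance
  haveI : Etale gU := Etale.of_comp gU U.ι
  let W : (U : Scheme.{u}).Etale := Scheme.Etale.mk gU
  let e : pullback gU (q ∣_ U) ⟶ pullback g q := pullback.lift (pullback.fst gU (q ∣_ U) ≫ N.ι)
    (pullback.snd gU (q ∣_ U) ≫ (q ⁻¹ᵁ U).ι) (by
      rw [Category.assoc, Category.assoc, ← hgU, ← morphismRestrict_ι, pullback.condition_assoc])
  have sq : IsPullback e (pullback.fst gU (q ∣_ U)) (pullback.fst g q) N.ι := by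
    refine IsPullback.of_right ?_ (pullback.lift_fst _ _ _) (IsPullback.of_hasPullback g q).flip
    rw [pullback.lift_snd, ← hgU]
    exact (IsPullback.of_hasPullback gU (q ∣_ U)).flip.paste_horiz (isPullback_morphismRestrict q U).flip
  haveI : Nonempty (N : Scheme.{u}) := ⟨⟨w, hwN⟩⟩
  obtain ⟨n, D, hD, hDcov, hclopen⟩ := hs.clopen N.ι (by
    rw [Scheme.Opens.range_ι]
    exact fun z hz => hz.1) sq
  haveI := finite_sections (hc.pull (q ⁻¹ᵁ U).ι) ((EtCoh.bc (q ∣_ U)).obj W) D hD hDcov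
  let eN := (Finite.equivFin (((EtDesc.pullSh (q ⁻¹ᵁ U).ι).obj C).obj.obj
    (op ((EtCoh.bc (q ∣_ U)).obj W)))).symm
  refine ⟨W, ⟨⟨w, hwN⟩, ?_⟩, _, eN, fun Ω _ _ ξ t => ?_⟩
  · refine U.ι.isOpenEmbedding.injective ?_
    show U.ι (gU _) = U.ι x
    rw [← Scheme.Hom.comp_apply, hgU, Scheme.Hom.comp_apply]
    exact hwx
  · exact (bijective_germ_push (hc.pull (q ⁻¹ᵁ U).ι) hprop W ξ t (hclopen Ω t.left)).comp eN.bijective

variable (f : X ⟶ S)

set_option maxHeartbeats 1000000 in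
/-- **Generic local constancy of direct images of constructible sheaves of sets.** -/
theorem exists_dense_push_isLocConstSet [IsNoetherian S] [LocallyOfFiniteType f] [QuasiCompact f]
    (F : EtDesc.Sh X) (hF : CohProp.IsConstructibleSet F) :
    ∃ U : S.Opens, Dense (U : Set S) ∧
      CohProp.IsLocConstSet ((EtDesc.pushSh (f ∣_ U)).obj ((EtDesc.pullSh (f ⁻¹ᵁ U).ι).obj F)) ∧
      CohProp.IsCohPropSet (𝟙 (U : Scheme.{u})) (f ∣_ U) ((EtDesc.pullSh (f ⁻¹ᵁ U).ι).obj F) := by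
  haveI : CompactSpace X := QuasiCompact.compactSpace_of_compactSpace f
  haveI : IsLocallyNoetherian X := LocallyOfFiniteType.isLocallyNoetherian f
  obtain ⟨A, B, j, s, t, h, hA, hB, ⟨hlim⟩⟩ := exists_presentation (isCons_of_isConstructibleSet hF)
  have key : ∀ {C : EtCoh.Ab X}, IsSum C → ∃ U₀ : S.Opens, Dense (U₀ : Set S) ∧ ∀ U : S.Opens, U ≤ U₀ →
      SLC ((EtDesc.pushSh (f ∣_ U)).obj ((EtDesc.pullSh (f ⁻¹ᵁ U).ι).obj (U0 C))) := by
    rintro _ ⟨n, Z, p, hp, hp', M, hMg, hM, rfl⟩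
    have hex : ∀ i, ∃ O : S.Opens, Dense (O : Set S) ∧ (∀ x ∈ O, SplitAt (p i ≫ f) x) ∧
        Proper.BijOn (p i ≫ f) (𝟙 S) ((𝟙 S) ⁻¹ᵁ O) := fun i => by
      haveI := hp i
      obtain ⟨O₁, hO₁, h₁⟩ := exists_dense_splitAt (p i ≫ f)
      obtain ⟨O₂, hO₂, h₂⟩ := Proper.exists_dense_bijOn (p i ≫ f) (𝟙 S)
      exact ⟨O₁ ⊓ O₂, hO₁.inter_of_isOpen_left hO₂ O₁.2, fun x hx => h₁ x hx.1, h₂.mono fun x hx => hx.2⟩
    choose O hO hsp hbij using hex
    refine ⟨Finset.univ.inf O, ?_, fun U hU => ?_⟩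
    · refine Finset.inf_induction (p := fun O : S.Opens => Dense (O : Set S)) ?_ ?_ fun i _ => hO i
      · exact dense_univ
      · exact fun O₁ h₁ O₂ h₂ => h₁.inter_of_isOpen_left h₂ O₁.2
    let P := fun i => (EtCoh.push (p i)).obj (EtCoh.const (Z i) (M i))
    let Ψ : EtCoh.Ab X ⥤ EtDesc.Sh (U : Scheme.{u}) :=
      sheafCompose X.smallEtaleTopology (forget AddCommGrpCat.{u + 1}) ⋙ EtDesc.pullSh (f ⁻¹ᵁ U).ι ⋙
        EtDesc.pushSh (f ∣_ U)
    refine slc_limit (Ψ.mapCone (biproduct.bicone P).toCone)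
      (isLimitOfPreserves Ψ (biproduct.isLimit P)) fun i => ?_
    obtain ⟨i⟩ := i
    haveI := hp i
    letI := hMg i
    haveI := hM i
    have hle : U ≤ O i := hU.trans (Finset.inf_le (Finset.mem_univ i))
    let q := p i ≫ f
    let C := U0 (EtCoh.const (Z i) (M i))
    let Vx := f ⁻¹ᵁ U
    haveI : IsIntegralHom (p i ∣_ Vx) :=
      MorphismProperty.of_isPullback (isPullback_morphismRestrict (p i) Vx).flip (inferInstanceAs (IsIntegralHom (p i)))
    obtain ⟨ι, _, c, hc⟩ := exists_constBasis (Z i) (M i)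
    have hprop : CohProp.IsCohPropSet (𝟙 (U : Scheme.{u})) (q ∣_ U) ((EtDesc.pullSh (q ⁻¹ᵁ U).ι).obj C) :=
      isCohPropSet_id_restrict U (Proper.isCohPropSet_of_bijOn U ((hbij i).mono fun y hy => hle hy)
        ((EtDesc.pullSh (q ⁻¹ᵁ U).ι).obj C) (hc.pull (q ⁻¹ᵁ U).ι))
    have h0 := slc_push_const q hc U hprop fun x hx => hsp i x (hle hx)
    rw [show q ∣_ U = (p i ∣_ Vx) ≫ (f ∣_ U) from morphismRestrict_comp (p i) f U] at h0
    have h1 := slc_of_iso ((EtDesc.pushCompSh (f ∣_ U) (p i ∣_ Vx)).app _).symm h0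
    have sq : IsPullback (p i ⁻¹ᵁ Vx).ι (p i ∣_ Vx) (p i) Vx.ι := (isPullback_morphismRestrict (p i) Vx).flip
    haveI := Groth.DescentBase.isIso_baseChange0Sh (p i) Vx.ι (p i ∣_ Vx) (p i ⁻¹ᵁ Vx).ι sq C
    exact slc_of_iso ((EtDesc.pushSh (f ∣_ U)).mapIso
      ((asIso (EtBC.baseChange0Sh (p i) Vx.ι (p i ∣_ Vx) (p i ⁻¹ᵁ Vx).ι sq.w C)).symm ≪≫
        (EtDesc.pullSh Vx.ι).mapIso (sheafPushU0 (p i) (EtCoh.const (Z i) (M i))))) h1
  obtain ⟨U₁, hU₁, h₁⟩ := key hA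
  obtain ⟨U₂, hU₂, h₂⟩ := key hB
  obtain ⟨U₃, hU₃, h₃⟩ := exists_dense_forall_isCohPropSet f (𝟙 S) F hF
  let U := U₁ ⊓ U₂ ⊓ U₃
  refine ⟨U, (hU₁.inter_of_isOpen_left hU₂ U₁.2).inter_of_isOpen_left hU₃ (U₁ ⊓ U₂).2, ?_, ?_⟩
  · refine isLocConstSet_of_slc ?_
    let Φ := EtDesc.pullSh (f ⁻¹ᵁ U).ι ⋙ EtDesc.pushSh (f ∣_ U)
    exact slc_of_fork _ _ (isLimitForkMapOfIsLimit Φ h hlim)
      (h₁ U (inf_le_left.trans inf_le_left)) (h₂ U (inf_le_left.trans inf_le_right))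
  · exact isCohPropSet_id_restrict U (h₃ U inf_le_right)

end Groth.ZeroAcyclic.Constructible
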