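import Groth.Agent.ZeroAcyclic.Constructible.BCFormal
import Groth.Agent.ZeroAcyclic.Proper.ConstBasis
import Groth.Agent.EtaleShriek.SecPull

/-!
Bijectivity of the pullback of global sections: finite limits, direct images along integral morphisms, and
sheaves with constant stalks along maps bijective on clopen subsets.
-/

set_option autoImplicit false
set_option backward.isDefEq.respectTransparency.types false
set_option linter.style.haveILetI false

universe u

open CategoryTheory CategoryTheory.Limits AlgebraicGeometry Opposite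

namespace Groth.ZeroAcyclic

open Groth.EtaleBase (fiberPoint geomPoint geomPoint_apply)
open Groth.EtaleShriek.FlatConnBC
open Groth.EtaleShriek.BCSets (sg)
open Groth.EtaleShriek.SecPull (secPull_naturality baseChange0Sh_secPull map_top_bijective)
open Groth.DescentBase (shStalkPullIso shGerm shGerm_eq_iff_mem shSection_ext agreeSet)
open Groth.DescentBase.UnivSubm (secPull_germ pt topPt)

variable {A X : Scheme.{u}}

section clopen

variable {G : EtDesc.Sh X} {ι : Type u} {c : ι → G.obj.obj (op (EtCoh.top X))} (hc : ConstBasis G c)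
  (m : A ⟶ X)

/-- Values of a pulled back section. -/
lemma sg_secPull (s : EtDesc.sect G (EtCoh.top X)) {K : Type u} [Field K] [IsSepClosed K]
    (p : Spec (CommRingCat.of K) ⟶ A) :
    sg ((EtDesc.pullSh m).obj G) p (EtCoh.top A) p (Category.comp_id _) (EtDesc.secPull m G s) =
      (shStalkPullIso m p).hom.app G (sg G (p ≫ m) (EtCoh.top X) (p ≫ m) (Category.comp_id _) s) :=
  (secPull_germ m G p rfl (Over.homMk (p ≫ m) (Category.comp_id _)) (Over.homMk p (Category.comp_id _)) s).trans
    (ConcreteCategory.congr_hom (by simp [pt] : (pt m G p rfl).hom = (shStalkPullIso m p).hom.app G) _)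

include hc in
/-- **Pullback of global sections** is bijective along maps bijective on clopen subsets. -/
theorem bijective_secPull_of_clopenBij [Finite ι] (hm : Groth.HensPair.ClopenBij m.base) :
    Function.Bijective (EtDesc.secPull m G) := by
  refine ⟨fun s t hst => ?_, fun x => ?_⟩
  · refine shSection_ext G (EtCoh.top X) s t fun z => ?_
    refine ((hm.inj m.continuous) (agreeSet G (EtCoh.top X) s t) Set.univ
      (isClopen_agreeSet hc _ s t) isClopen_univ ?_).ge (Set.mem_univ z)
    refine Set.eq_univ_of_forall fun a => ?_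
    let p := geomPoint (X := A) a
    have h1 := (sg_secPull m s p).symm.trans (((congrArg (fun y => sg ((EtDesc.pullSh m).obj G) p (EtCoh.top A) p
      (Category.comp_id _) y) hst)).trans (sg_secPull m t p))
    have h2 := ((isIso_iff_bijective ((shStalkPullIso m p).hom.app G)).1 inferInstance).1 h1
    refine Set.mem_of_eq_of_mem ?_ ((shGerm_eq_iff_mem (p ≫ m) G (EtCoh.top X) s t
      (Over.homMk (p ≫ m) (Category.comp_id _))).1 h2)
    exact (geomPoint_apply a _).symm
  · obtain ⟨y, hy⟩ := exists_descent_of_clopenBij hc m hm x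
    refine ⟨y, shSection_ext _ _ _ _ fun z => ?_⟩
    let p := geomPoint (X := A) z
    obtain ⟨hl, h⟩ := hy _ p
    let q : Spec (CommRingCat.of _) ⟶ A := p ≫ (EtCoh.top A).hom
    have hq : q = p := Category.comp_id p
    have hl' : p ≫ m = q ≫ m := congrArg (· ≫ m) hq.symm
    have h1 : sg ((EtDesc.pullSh m).obj G) q (EtCoh.top A) q (Category.comp_id _) x =
        (shStalkPullIso m q).hom.app G (sg G (q ≫ m) (EtCoh.top X) (q ≫ m) (Category.comp_id _) y) := by
      rw [stalkPullIso_sg]
      refine Eq.trans ?_ (Eq.trans h ?_)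
      · exact sg_congr _ _ hq _ _ _
      · exact sg_congr _ _ (pullback.hom_ext
          ((pullback.lift_fst _ _ _).trans (hl'.trans (pullback.lift_fst _ _ _).symm))
          ((pullback.lift_snd _ _ _).trans (pullback.lift_snd _ _ _).symm)) _ _ _
    refine Set.mem_of_eq_of_mem ?_ ((shGerm_eq_iff_mem q _ (EtCoh.top A) _ _
      (Over.homMk q (Category.comp_id _))).1 ((sg_secPull m y q).trans h1.symm))
    show _ = q default
    rw [hq, geomPoint_apply]

end clopen

/-- Global sections. -/
noncomputable abbrev glob (X : Scheme.{u}) : EtDesc.Sh X ⥤ Type (u + 1) :=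
  sheafToPresheaf _ _ ⋙ (evaluation X.Etaleᵒᵖ (Type (u + 1))).obj (op (EtCoh.top X))

/-- Pullback of global sections as a natural transformation. -/
noncomputable def secNat (m : A ⟶ X) : glob X ⟶ EtDesc.pullSh m ⋙ glob A where
  app G := TypeCat.ofHom fun s => EtDesc.secPull m G s
  naturality G G' u := by
    ext s
    exact (secPull_naturality m u s).symm

lemma isIso_secNat_iff (m : A ⟶ X) (G : EtDesc.Sh X) :
    IsIso ((secNat m).app G) ↔ Function.Bijective (EtDesc.secPull m G) :=
  isIso_iff_bijective _

variable {Xb Ab : Scheme.{u}} (k : A ⟶ X) (p : Xb ⟶ X) (kb : Ab ⟶ Xb) (pA : Ab ⟶ A)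

/-- Pullback of sections of a direct image along an integral morphism. -/
theorem bijective_secPull_push [IsIntegralHom p] (sq : IsPullback kb pA p k) (C : EtDesc.Sh Xb)
    (h : Function.Bijective (EtDesc.secPull kb C)) :
    Function.Bijective (EtDesc.secPull k ((EtDesc.pushSh p).obj C)) := by
  haveI := Groth.DescentBase.isIso_baseChange0Sh p k pA kb sq C
  have hbc : Function.Bijective ((EtBC.baseChange0Sh p k pA kb sq.w C).hom.app (op (EtCoh.top A))) :=
    (isIso_iff_bijective _).1
      (inferInstanceAs (IsIso ((glob A).map (EtBC.baseChange0Sh p k pA kb sq.w C))))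
  have h2 : Function.Bijective (fun s : EtDesc.sect C (EtCoh.top Xb) =>
      (EtBC.baseChange0Sh p k pA kb sq.w C).hom.app (op (EtCoh.top A))
        (EtDesc.secPull k ((EtDesc.pushSh p).obj C) (C.obj.map (EtCore.bcTopIso p).hom.op s))) := by
    rw [funext fun s => baseChange0Sh_secPull k p kb pA sq.w C s]
    exact (map_top_bijective (EtCore.bcTopIso pA)).comp h
  exact (Function.Bijective.of_comp_iff' hbc _).1
    ((Function.Bijective.of_comp_iff _ (map_top_bijective (F := C) (EtCore.bcTopIso p))).1 h2)

end Groth.ZeroAcyclic
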