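import Groth.Agent.ZeroAcyclic.Constructible.Proper
import Groth.Agent.ZeroAcyclic.Constructible.SecBij
import Groth.Agent.ZeroAcyclic.Constructible.MilnorLocal

/-!
Generic universal local acyclicity in degree zero of constructible sheaves of sets.
-/

set_option autoImplicit false
set_option backward.isDefEq.respectTransparency.types false
set_option linter.style.haveILetI false

universe u

open CategoryTheory CategoryTheory.Limits AlgebraicGeometry Opposite IsLocalRing

namespace Groth.ZeroAcyclic.Constructible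

open Groth.ZeroAcyclic.Free Groth.ZeroAcyclic.BCFormal
open Groth.EtaleShriek.BCForget (U0)

variable {X S Z X' S' : Scheme.{u}}

/-- Geometrically connected Milnor fibres of all weakly étale strictly local schemes over `q` above `U`. -/
def MilnorConnected (q : Z ⟶ S) (U : S.Opens) : Prop :=
  ∀ ⦃Z' S' : Scheme.{u}⦄ (b : S' ⟶ S), Set.range b.base ⊆ (U : Set S) →
    ∀ (q' : Z' ⟶ S') (b' : Z' ⟶ Z), IsPullback b' q' q b →
    ∀ (RS RX : Type u) [CommRing RS] [CommRing RX] [HenselianLocalRing RS] [HenselianLocalRing RX]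
      [IsSepClosed (ResidueField RS)] [IsSepClosed (ResidueField RX)]
      (σS : Spec (CommRingCat.of RS) ⟶ S') [WeaklyEtale σS] (σX : Spec (CommRingCat.of RX) ⟶ Z')
      [WeaklyEtale σX] (ψ : RS →+* RX) [IsLocalHom ψ],
      Spec.map (CommRingCat.ofHom ψ) ≫ σS = σX ≫ q' →
        GeometricallyConnected (Spec.map (CommRingCat.ofHom ψ))

theorem MilnorConnected.mono {q : Z ⟶ S} {U U' : S.Opens} (h : MilnorConnected q U) (hle : U' ≤ U) :
    MilnorConnected q U' := fun _ _ b hb => h b (hb.trans hle)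

section factor

variable {f : X ⟶ S} {U : S.Opens} {b : S' ⟶ S} (hb : Set.range b.base ⊆ (U : Set S)) {f' : X' ⟶ S'}
  {b' : X' ⟶ X} (sq : IsPullback b' f' f b) {RS RX : Type u} [CommRing RS] [CommRing RX]
  [HenselianLocalRing RS] [HenselianLocalRing RX] [IsSepClosed (ResidueField RS)]
  [IsSepClosed (ResidueField RX)] (σS : Spec (CommRingCat.of RS) ⟶ S') [WeaklyEtale σS]
  (σX : Spec (CommRingCat.of RX) ⟶ X') [WeaklyEtale σX] (ψ : RS →+* RX) [IsLocalHom ψ]
  (hν : Spec.map (CommRingCat.ofHom ψ) ≫ σS = σX ≫ f') {K : Type u} [Field K]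
  (τ : Spec (CommRingCat.of K) ⟶ Spec (CommRingCat.of RS)) (p : Z ⟶ X) [IsFinite p]
  (hU : MilnorConnected (p ≫ f) U)

include hb sq hν hU in
/-- The finite scheme over the strict localisation has the clopen subsets of its Milnor fibre. -/
theorem clopenBij_factor :
    Groth.HensPair.ClopenBij (pullback.fst (pullback.snd p (σX ≫ b'))
      (pullback.fst (Spec.map (CommRingCat.ofHom ψ)) τ)).base := by
  let e := σX ≫ b'
  let p₁ := pullback.snd p e
  let m := Spec.map (CommRingCat.ofHom ψ)
  let k := pullback.fst m τ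
  haveI : IsFinite p₁ := MorphismProperty.pullback_snd (P := @IsFinite) _ _ ‹_›
  haveI : IsAffine (pullback p e) := isAffine_of_isAffineHom p₁
  let iZ := (pullback p e).isoSpec
  let B : Type u := Γ(pullback p e, ⊤)
  obtain ⟨φ, hφ⟩ := Spec.map_surjective (R := CommRingCat.of RX) (S := CommRingCat.of B) (iZ.inv ≫ p₁)
  haveI : IsFinite (Spec.map φ) := by
    rw [hφ]
    exact (MorphismProperty.cancel_left_of_respectsIso @IsFinite iZ.inv p₁).2 ‹_›
  have hfin : φ.hom.Finite := (IsFinite.SpecMap_iff φ).1 ‹_›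
  have hc := clopenBij_finite RS RX B ψ φ.hom hfin (fun Q _ _ _ π _ hπ => by
    let θ : pullback p e ⟶ pullback p b' :=
      pullback.lift (pullback.fst p e) (p₁ ≫ σX) (pullback.condition.trans (Category.assoc _ _ _).symm)
    have hθ : IsPullback θ p₁ (pullback.snd p b') σX := by
      refine IsPullback.of_right ?_ (pullback.lift_snd _ _ _) (IsPullback.of_hasPullback p b')
      rw [pullback.lift_fst]
      exact IsPullback.of_hasPullback p e
    haveI : WeaklyEtale θ := MorphismProperty.of_isPullback (P := @WeaklyEtale) hθ.flip ‹WeaklyEtale σX›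
    haveI := hπ
    let σQ := Spec.map (CommRingCat.ofHom π) ≫ iZ.inv ≫ θ
    refine hU b hb (pullback.snd p b' ≫ f') (pullback.fst p b')
      ((IsPullback.of_hasPullback p b').paste_vert sq) RS Q σS σQ _ ?_
    have hcomp : Spec.map (CommRingCat.ofHom ((π.comp φ.hom).comp ψ)) =
        Spec.map (CommRingCat.ofHom π) ≫ Spec.map φ ≫ Spec.map (CommRingCat.ofHom ψ) := by
      rw [← Spec.map_comp, ← Spec.map_comp]
      rfl
    rw [hcomp, Category.assoc, Category.assoc, hν, hφ]
    show _ = (Spec.map (CommRingCat.ofHom π) ≫ iZ.inv ≫ θ) ≫ pullback.snd p b' ≫ f'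
    simp only [Category.assoc]
    rw [show θ ≫ pullback.snd p b' ≫ f' = p₁ ≫ σX ≫ f' by
      rw [← Category.assoc, pullback.lift_snd, Category.assoc]]) τ
  have h1 : IsPullback (pullback.fst p₁ k ≫ iZ.hom) (pullback.snd p₁ k ≫ pullback.snd m τ)
      (Spec.map φ ≫ m) τ := by
    refine IsPullback.of_iso ((IsPullback.of_hasPullback p₁ k).paste_vert (IsPullback.of_hasPullback m τ))
      (Iso.refl _) iZ (Iso.refl _) (Iso.refl _) ?_ ?_ ?_ ?_ <;>
      simp only [Iso.refl_hom, Category.id_comp, Category.comp_id]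
    rw [reassoc_of% hφ, Iso.hom_inv_id_assoc]
  let i := h1.isoPullback
  have e1 : pullback.fst p₁ k = i.hom ≫ pullback.fst (Spec.map φ ≫ m) τ ≫ iZ.inv := by
    rw [← Category.assoc, h1.isoPullback_hom_fst, Category.assoc, Iso.hom_inv_id, Category.comp_id]
  show Groth.HensPair.ClopenBij (pullback.fst p₁ k).base
  rw [e1]
  exact (Groth.HensPair.ClopenBij.homeomorph iZ.inv.homeomorph).comp (Scheme.Hom.continuous _)
    hc (Scheme.Hom.continuous _) |>.comp
      ((iZ.inv.continuous).comp (Scheme.Hom.continuous _))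
      (Groth.HensPair.ClopenBij.homeomorph i.hom.homeomorph) (Scheme.Hom.continuous _)

include hb sq hν hU in
/-- Local acyclicity of the factors. -/
theorem bijective_pushConst (M : Type) [AddCommGroup M] [Finite M] :
    Function.Bijective (EtDesc.secPull (pullback.fst (Spec.map (CommRingCat.ofHom ψ)) τ)
      ((EtDesc.pullSh (σX ≫ b')).obj ((EtDesc.pushSh p).obj (U0 (EtCoh.const Z M))))) := by
  let e := σX ≫ b'
  let C := U0 (EtCoh.const Z M)
  let k := pullback.fst (Spec.map (CommRingCat.ofHom ψ)) τ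
  haveI : IsIntegralHom (pullback.snd p e) := MorphismProperty.pullback_snd (P := @IsIntegralHom) _ _ inferInstance
  obtain ⟨ι, _, c, hc⟩ := exists_constBasis Z M
  have h1 := bijective_secPull_of_clopenBij (hc.pull (pullback.fst p e))
    (pullback.fst (pullback.snd p e) k) (clopenBij_factor hb sq σS σX ψ hν τ p hU)
  have h2 := bijective_secPull_push k (pullback.snd p e) (pullback.fst (pullback.snd p e) k)
    (pullback.snd (pullback.snd p e) k) (IsPullback.of_hasPullback _ _) _ h1
  haveI := Groth.DescentBase.isIso_baseChange0Sh p e (pullback.snd p e) (pullback.fst p e)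
    (IsPullback.of_hasPullback p e) C
  exact (isIso_secNat_iff k _).1 ((NatTrans.isIso_app_iff_of_iso (secNat k)
    (asIso (EtBC.baseChange0Sh p e (pullback.snd p e) (pullback.fst p e) (IsPullback.of_hasPullback p e).w C))).2
      ((isIso_secNat_iff k _).2 h2))

end factor

variable (f : X ⟶ S)

set_option maxHeartbeats 1000000 in
/-- **Generic local acyclicity of constructible sheaves of sets.** -/
theorem exists_dense_bijective_secPull [IsNoetherian S] [LocallyOfFiniteType f] [QuasiCompact f]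
    (F : EtDesc.Sh X) (hF : CohProp.IsConstructibleSet F) :
    ∃ U : S.Opens, Dense (U : Set S) ∧
      ∀ ⦃X' S' : Scheme.{u}⦄ (b : S' ⟶ S), Set.range b.base ⊆ (U : Set S) →
        ∀ (f' : X' ⟶ S') (b' : X' ⟶ X), IsPullback b' f' f b →
        ∀ (RS RX : Type u) [CommRing RS] [CommRing RX] [HenselianLocalRing RS] [HenselianLocalRing RX]
          [IsSepClosed (ResidueField RS)] [IsSepClosed (ResidueField RX)]
          (σS : Spec (CommRingCat.of RS) ⟶ S') [WeaklyEtale σS] (σX : Spec (CommRingCat.of RX) ⟶ X')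
          [WeaklyEtale σX] (ψ : RS →+* RX) [IsLocalHom ψ],
          Spec.map (CommRingCat.ofHom ψ) ≫ σS = σX ≫ f' →
          ∀ (K : Type u) [Field K] (τ : Spec (CommRingCat.of K) ⟶ Spec (CommRingCat.of RS)),
            Function.Bijective (EtDesc.secPull (pullback.fst (Spec.map (CommRingCat.ofHom ψ)) τ)
              ((EtDesc.pullSh (σX ≫ b')).obj F)) := by
  haveI : CompactSpace X := QuasiCompact.compactSpace_of_compactSpace f
  haveI : IsLocallyNoetherian X := LocallyOfFiniteType.isLocallyNoetherian f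
  obtain ⟨A, B, j, s, t, h, hA, hB, ⟨hlim⟩⟩ := exists_presentation (isCons_of_isConstructibleSet hF)
  have key : ∀ {C : EtCoh.Ab X}, IsSum C → ∃ U₀ : S.Opens, Dense (U₀ : Set S) ∧
      ∀ ⦃X' S' : Scheme.{u}⦄ (b : S' ⟶ S), Set.range b.base ⊆ (U₀ : Set S) →
        ∀ (f' : X' ⟶ S') (b' : X' ⟶ X), IsPullback b' f' f b →
        ∀ (RS RX : Type u) [CommRing RS] [CommRing RX] [HenselianLocalRing RS] [HenselianLocalRing RX]
          [IsSepClosed (ResidueField RS)] [IsSepClosed (ResidueField RX)]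
          (σS : Spec (CommRingCat.of RS) ⟶ S') [WeaklyEtale σS] (σX : Spec (CommRingCat.of RX) ⟶ X')
          [WeaklyEtale σX] (ψ : RS →+* RX) [IsLocalHom ψ],
          Spec.map (CommRingCat.ofHom ψ) ≫ σS = σX ≫ f' →
          ∀ (K : Type u) [Field K] (τ : Spec (CommRingCat.of K) ⟶ Spec (CommRingCat.of RS)),
            IsIso ((secNat (pullback.fst (Spec.map (CommRingCat.ofHom ψ)) τ)).app
              ((EtDesc.pullSh (σX ≫ b')).obj (U0 C))) := by
    rintro _ ⟨n, Z, p, hp, hp', M, hMg, hM, rfl⟩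
    have hex : ∀ i, ∃ O : S.Opens, Dense (O : Set S) ∧ MilnorConnected (p i ≫ f) O := fun i => by
      haveI := hp i
      exact exists_dense_open_geometricallyConnected_weaklyEtale (p i ≫ f)
    choose O hO hmc using hex
    refine ⟨Finset.univ.inf O, ?_,
      fun X' S' b hb f' b' sq RS RX _ _ _ _ _ _ σS _ σX _ ψ _ hν K _ τ => ?_⟩
    · refine Finset.inf_induction (p := fun O : S.Opens => Dense (O : Set S)) ?_ ?_ fun i _ => hO i
      · exact dense_univ
      · exact fun O₁ h₁ O₂ h₂ => h₁.inter_of_isOpen_left h₂ O₁.2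
    let P := fun i => (EtCoh.push (p i)).obj (EtCoh.const (Z i) (M i))
    let Ψ : EtCoh.Ab X ⥤ EtDesc.Sh (Spec (CommRingCat.of RX)) :=
      sheafCompose X.smallEtaleTopology (forget AddCommGrpCat.{u + 1}) ⋙ EtDesc.pullSh (σX ≫ b')
    refine isIso_app_of_limit _ (Ψ.mapCone (biproduct.bicone P).toCone)
      (isLimitOfPreserves Ψ (biproduct.isLimit P)) fun i => ?_
    haveI := hp i.as
    letI := hMg i.as
    haveI := hM i.as
    obtain ⟨i⟩ := i
    refine (NatTrans.isIso_app_iff_of_iso _
      ((EtDesc.pullSh (σX ≫ b')).mapIso (sheafPushU0 (p i) (EtCoh.const (Z i) (M i))))).1 ?_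
    exact (isIso_secNat_iff _ _).2 (bijective_pushConst hb sq σS σX ψ hν τ (p i)
      ((hmc i).mono (Finset.inf_le (Finset.mem_univ i))) (M i))
  obtain ⟨U₁, hU₁, h₁⟩ := key hA
  obtain ⟨U₂, hU₂, h₂⟩ := key hB
  refine ⟨U₁ ⊓ U₂, hU₁.inter_of_isOpen_left hU₂ U₁.2,
    fun X' S' b hb f' b' sq RS RX _ _ _ _ _ _ σS _ σX _ ψ _ hν K _ τ => ?_⟩
  haveI := h₁ b (hb.trans Set.inter_subset_left) f' b' sq RS RX σS σX ψ hν K τ
  haveI := h₂ b (hb.trans Set.inter_subset_right) f' b' sq RS RX σS σX ψ hν K τ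
  refine (isIso_secNat_iff _ _).1 ?_
  exact isIso_app_of_fork (secNat (pullback.fst (Spec.map (CommRingCat.ofHom ψ)) τ))
    (Fork.ofι ((EtDesc.pullSh (σX ≫ b')).map j) (by rw [← Functor.map_comp, h, Functor.map_comp]))
    (isLimitForkMapOfIsLimit (EtDesc.pullSh (σX ≫ b')) h hlim) rfl

end Groth.ZeroAcyclic.Constructible
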