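import Groth.Agent.DescentBase.BaseChange0Sh
import Groth.Agent.DescentBase.ClosedImmSh
import Groth.Prelude.Def_CohProp

/-!
Formal properties of the base change morphism in degree zero for sheaves of sets: it is natural, its
bijectivity is stable under finite limits, and it is compatible with direct images along integral morphisms.
-/

set_option autoImplicit false
set_option backward.isDefEq.respectTransparency.types false
set_option linter.style.haveILetI false

universe u

open CategoryTheory CategoryTheory.Limits AlgebraicGeometry Opposite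

namespace Groth.ZeroAcyclic.BCFormal

open Groth.DescentBase (shStalk shStalkPullIso isIso_of_acPoints acPoint)

variable {X Y X' Y' : Scheme.{u}}

/-- Stalks at algebraically closed points detect isomorphisms. -/
theorem jointlyReflectIsomorphisms_shStalk :
    JointlyReflectIsomorphisms (fun x : X => shStalk (acPoint x)) where
  isIso φ hφ := isIso_of_acPoints φ fun x => (isIso_iff_bijective _).1 (hφ x)

/-- Inverse image of sheaves of sets is left exact. -/
instance pullSh_preservesFiniteLimits (f : X ⟶ Y) : PreservesFiniteLimits (EtDesc.pullSh f) where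
  preservesFiniteLimits J _ _ :=
    { preservesLimit := fun {K} =>
        { preserves := fun {c} hc => ⟨jointlyReflectIsomorphisms_shStalk.jointlyReflectsLimit fun x => by
            have : PreservesLimitsOfShape J (EtDesc.pullSh f ⋙ shStalk (acPoint x)) :=
              preservesLimitsOfShape_of_natIso (shStalkPullIso f (acPoint x))
            exact isLimitOfPreserves (EtDesc.pullSh f ⋙ shStalk (acPoint x)) hc⟩ } }

section general

variable {C D : Type*} [Category C] [Category D] {P Q : C ⥤ D} (α : P ⟶ Q)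

/-- A natural transformation is invertible at an equalizer when invertible at the middle and injective at
the end. -/
theorem isIso_app_of_fork {F G H : C} {s t : G ⟶ H} (c : Fork s t) (hc : IsLimit c) (e : c.pt = F)
    [PreservesLimit (parallelPair s t) P] [PreservesLimit (parallelPair s t) Q] [IsIso (α.app G)]
    [Mono (α.app H)] : IsIso (α.app F) := by
  subst e
  let cP := isLimitForkMapOfIsLimit P c.condition (hc.ofIsoLimit (Fork.ext (Iso.refl _) (by simp)))
  let cQ := isLimitForkMapOfIsLimit Q c.condition (hc.ofIsoLimit (Fork.ext (Iso.refl _) (by simp)))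
  have h : (Q.map c.ι ≫ inv (α.app G)) ≫ P.map s = (Q.map c.ι ≫ inv (α.app G)) ≫ P.map t := by
    rw [← cancel_mono (α.app H)]
    simp only [Category.assoc, α.naturality, IsIso.inv_hom_id_assoc, ← Functor.map_comp, c.condition]
  obtain ⟨k, hk⟩ := Fork.IsLimit.lift' cP (Q.map c.ι ≫ inv (α.app G)) h
  change k ≫ P.map c.ι = _ at hk
  refine ⟨k, Fork.IsLimit.hom_ext cP ?_, Fork.IsLimit.hom_ext cQ ?_⟩
  · change (α.app _ ≫ k) ≫ P.map c.ι = 𝟙 _ ≫ P.map c.ι
    rw [Category.assoc, hk, ← α.naturality_assoc, IsIso.hom_inv_id, Category.comp_id, Category.id_comp]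
  · change (k ≫ α.app _) ≫ Q.map c.ι = 𝟙 _ ≫ Q.map c.ι
    rw [Category.assoc, ← α.naturality, ← Category.assoc, hk, Category.assoc, IsIso.inv_hom_id,
      Category.comp_id, Category.id_comp]

/-- A natural transformation is invertible at a limit of objects where it is invertible. -/
theorem isIso_app_of_limit {J : Type*} [Category J] {K : J ⥤ C} (c : Cone K) (hc : IsLimit c)
    [PreservesLimit K P] [PreservesLimit K Q] (h : ∀ j, IsIso (α.app (K.obj j))) : IsIso (α.app c.pt) := by
  haveI : IsIso (Functor.whiskerLeft K α) :=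
    haveI : ∀ j, IsIso ((Functor.whiskerLeft K α).app j) := h
    NatIso.isIso_of_isIso_app _
  let hP := isLimitOfPreserves P hc
  let hQ := isLimitOfPreserves Q hc
  have e : α.app c.pt = (IsLimit.conePointsIsoOfNatIso hP hQ (asIso (Functor.whiskerLeft K α))).hom := by
    refine hQ.hom_ext fun j => ?_
    rw [IsLimit.conePointsIsoOfNatIso_hom_comp]
    exact (α.naturality (c.π.app j)).symm
  exact e ▸ Iso.isIso_hom _

end general

section square

variable (f : X ⟶ Y) (g : Y' ⟶ Y) (f' : X' ⟶ Y') (h : X' ⟶ X) (w : h ≫ f = f' ≫ g)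

/-- The base change morphism is natural. -/
theorem baseChange0Sh_naturality {F G : EtDesc.Sh X} (φ : F ⟶ G) :
    (EtDesc.pullSh g).map ((EtDesc.pushSh f).map φ) ≫ EtBC.baseChange0Sh f g f' h w G =
      EtBC.baseChange0Sh f g f' h w F ≫ (EtDesc.pushSh f').map ((EtDesc.pullSh h).map φ) := by
  unfold EtBC.baseChange0Sh
  rw [← Adjunction.homEquiv_naturality_left_symm, ← Adjunction.homEquiv_naturality_right_symm]
  congr 1
  rw [← Functor.map_comp_assoc, show φ ≫ (EtDesc.adjSh h).unit.app G =
    (EtDesc.adjSh h).unit.app F ≫ (EtDesc.pushSh h).map ((EtDesc.pullSh h).map φ) from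
      (EtDesc.adjSh h).unit.naturality φ]
  simp only [Functor.map_comp, Category.assoc]
  congr 1
  have e1 := (EtDesc.pushCompSh f h).hom.naturality ((EtDesc.pullSh h).map φ)
  have e2 := (EtBC.pushCongrSh w).hom.naturality ((EtDesc.pullSh h).map φ)
  have e3 := (EtDesc.pushCompSh g f').inv.naturality ((EtDesc.pullSh h).map φ)
  simp only [Functor.comp_map] at e1 e2 e3
  rw [reassoc_of% e1, reassoc_of% e2, e3]

/-- The base change morphism as a natural transformation. -/
noncomputable def bcNat :
    EtDesc.pushSh f ⋙ EtDesc.pullSh g ⟶ EtDesc.pullSh h ⋙ EtDesc.pushSh f' where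
  app F := EtBC.baseChange0Sh f g f' h w F
  naturality _ _ φ := baseChange0Sh_naturality f g f' h w φ

instance : PreservesFiniteLimits (EtDesc.pushSh f) :=
  have := (EtDesc.adjSh f).rightAdjoint_preservesLimits
  inferInstance

theorem isIso_of_iso {F G : EtDesc.Sh X} (e : F ≅ G) (hF : IsIso (EtBC.baseChange0Sh f g f' h w F)) :
    IsIso (EtBC.baseChange0Sh f g f' h w G) :=
  (NatTrans.isIso_app_iff_of_iso (bcNat f g f' h w) e).1 hF

theorem isIso_of_fork {F G H : EtDesc.Sh X} {s t : G ⟶ H} (ι : F ⟶ G) (hι : ι ≫ s = ι ≫ t)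
    (hc : IsLimit (Fork.ofι ι hι)) (hG : IsIso (EtBC.baseChange0Sh f g f' h w G))
    (hH : IsIso (EtBC.baseChange0Sh f g f' h w H)) : IsIso (EtBC.baseChange0Sh f g f' h w F) := by
  haveI : IsIso ((bcNat f g f' h w).app G) := hG
  haveI : IsIso ((bcNat f g f' h w).app H) := hH
  exact isIso_app_of_fork (bcNat f g f' h w) (Fork.ofι ι hι) hc rfl

theorem isIso_of_limit {J : Type} [SmallCategory J] [FinCategory J] {K : J ⥤ EtDesc.Sh X} (c : Cone K)
    (hc : IsLimit c) (hK : ∀ j, IsIso (EtBC.baseChange0Sh f g f' h w (K.obj j))) :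
    IsIso (EtBC.baseChange0Sh f g f' h w c.pt) :=
  isIso_app_of_limit (bcNat f g f' h w) c hc hK

end square

section predicate

variable {S : Scheme.{u}} {q : Y ⟶ S} {f : X ⟶ Y}

theorem isCohPropSet_of_iso {F G : EtDesc.Sh X} (e : F ≅ G) (hF : CohProp.IsCohPropSet q f F) :
    CohProp.IsCohPropSet q f G :=
  fun _ _ _ p g q' h f' hgp sq => isIso_of_iso f g f' h sq.w e (hF p g q' h f' hgp sq)

theorem isCohPropSet_of_fork {F G H : EtDesc.Sh X} {s t : G ⟶ H} (ι : F ⟶ G) (hι : ι ≫ s = ι ≫ t)
    (hc : IsLimit (Fork.ofι ι hι)) (hG : CohProp.IsCohPropSet q f G) (hH : CohProp.IsCohPropSet q f H) :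
    CohProp.IsCohPropSet q f F :=
  fun _ _ _ p g q' h f' hgp sq =>
    isIso_of_fork f g f' h sq.w ι hι hc (hG p g q' h f' hgp sq) (hH p g q' h f' hgp sq)

theorem isCohPropSet_of_limit {J : Type} [SmallCategory J] [FinCategory J] {K : J ⥤ EtDesc.Sh X}
    (c : Cone K) (hc : IsLimit c) (hK : ∀ j, CohProp.IsCohPropSet q f (K.obj j)) :
    CohProp.IsCohPropSet q f c.pt :=
  fun _ _ _ p g q' h f' hgp sq => isIso_of_limit f g f' h sq.w c hc fun j => hK j p g q' h f' hgp sq

end predicate

end Groth.ZeroAcyclic.BCFormal
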