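import Groth.Agent.ZeroAcyclic.Constructible.LocalBases
import Groth.Agent.EtPbc.ConsEmbed
import Groth.Agent.EtaleDeep.Cons.Generators
import Groth.Agent.EtaleDeep.Cons.ExtZeroConst
import Groth.Agent.DescentBase.ClosedImmSh

/-!
Constructible sheaves of sets are equalizers of two maps between finite products of direct images of finite
constant sheaves along finite morphisms.
-/

set_option autoImplicit false
set_option backward.isDefEq.respectTransparency.types false
set_option linter.style.haveILetI false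

universe u

open CategoryTheory CategoryTheory.Limits AlgebraicGeometry Opposite

namespace Groth.ZeroAcyclic.Free

open Groth.EtaleBase (germ germ_map)
open Groth.EtaleShriek.BCForget (U0 toAbStalk toAbStalk_germ toAbStalk_bijective)
open Groth.DescentBase (shStalk shGerm shGerm_surjective shGerm_map isIso_of_acPoints acPoint)
open Groth.EtaleDeep.Cons (IsCons isConstructible_biproduct isConstructible_push isConstructible_cokernel
  isConstructible_of_isFLC isConstructible_of_iso isFLC_constantSheaf)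

variable {X : Scheme.{u}}

/-- The underlying map of sheaves of sets. -/
noncomputable abbrev U0map {A B : EtCoh.Ab X} (φ : A ⟶ B) : U0 A ⟶ U0 B :=
  (sheafCompose X.smallEtaleTopology (forget AddCommGrpCat.{u + 1})).map φ

lemma toAbStalk_map {A B : EtCoh.Ab X} (φ : A ⟶ B) {Ω : Type u} [Field Ω] [IsSepClosed Ω]
    (ξ : Spec (CommRingCat.of Ω) ⟶ X) (a : (shStalk ξ).obj (U0 A)) :
    toAbStalk ξ B ((shStalk ξ).map (U0map φ) a) = (EtCoh.stalk ξ).map φ (toAbStalk ξ A a) := by
  obtain ⟨U, t, σ, rfl⟩ := shGerm_surjective ξ (U0 A) a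
  rw [shGerm_map, toAbStalk_germ, toAbStalk_germ, germ_map]
  rfl

/-- A finite sum of direct images of finite constant sheaves along finite morphisms. -/
def IsSum (A : EtCoh.Ab X) : Prop :=
  ∃ (n : ℕ) (Y : Fin n → Scheme.{u}) (f : ∀ i, Y i ⟶ X) (_ : ∀ i, IsFinite (f i))
    (_ : ∀ i, LocallyOfFinitePresentation (f i))
    (M : Fin n → Type) (_ : ∀ i, AddCommGroup (M i)) (_ : ∀ i, Finite (M i)),
    A = ⨁ fun i => (EtCoh.push (f i)).obj (EtCoh.const (Y i) (M i))

theorem IsSum.isConstructible {A : EtCoh.Ab X} (h : IsSum A) : EtPBC.IsConstructible A := by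
  obtain ⟨n, Y, f, hf, hf', M, hMg, hM, rfl⟩ := h
  exact isConstructible_biproduct _ fun i =>
    haveI := hf i
    haveI := hf' i
    haveI := hM i
    isConstructible_push (f i) (isConstructible_of_isFLC (isFLC_constantSheaf (Y i) (M i)))

theorem exists_isSum_mono [CompactSpace X] [QuasiSeparatedSpace X] {A : EtCoh.Ab X}
    (hA : EtPBC.IsConstructible A) : ∃ (B : EtCoh.Ab X) (ι : A ⟶ B), Mono ι ∧ IsSum B := by
  obtain ⟨n, Y, f, hf, hf', M, hMg, hM, ι, hι⟩ := Groth.EtPbc.ConsEmbed.exists_embedding hA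
  exact ⟨_, ι, hι, n, Y, f, hf, hf', M, hMg, hM, rfl⟩

theorem stalk_injective_of_mono {A B : EtCoh.Ab X} (φ : A ⟶ B) [Mono φ] {Ω : Type u} [Field Ω] [IsSepClosed Ω]
    (ξ : Spec (CommRingCat.of Ω) ⟶ X) : Function.Injective ((EtCoh.stalk ξ).map φ) :=
  (AddCommGrpCat.mono_iff_injective _).1 inferInstance

section presentation

variable [CompactSpace X] [QuasiSeparatedSpace X]

set_option maxHeartbeats 1000000 in
/-- **A constructible sheaf of sets is an equalizer of finite products of direct images of finite constant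
sheaves along finite morphisms.** -/
theorem exists_presentation {F : EtDesc.Sh X} (hF : IsCons (SLCOn F)) :
    ∃ (A B : EtCoh.Ab X) (j : F ⟶ U0 A) (s t : U0 A ⟶ U0 B) (h : j ≫ s = j ≫ t),
      IsSum A ∧ IsSum B ∧ Nonempty (IsLimit (Fork.ofι j h)) := by
  obtain ⟨A, ι₁, hι₁, hA⟩ := exists_isSum_mono (isConstructible_free hF)
  let j : F ⟶ U0 A := unit F ≫ U0map ι₁
  let m := freeMap j
  let π := cokernel.π m
  obtain ⟨B, ι₂, hι₂, hB⟩ := exists_isSum_mono (isConstructible_cokernel m (isConstructible_free hF)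
    (isConstructible_free (isCons_U0 hA.isConstructible)))
  let s : U0 A ⟶ U0 B := unit (U0 A) ≫ U0map (π ≫ ι₂)
  let t : U0 A ⟶ U0 B := U0map 0
  -- stalkwise description
  have hs : ∀ {Ω : Type u} [Field Ω] [IsSepClosed Ω] (ξ : Spec (CommRingCat.of Ω) ⟶ X)
      (a : (shStalk ξ).obj (U0 A)), toAbStalk ξ B ((shStalk ξ).map s a) =
        (EtCoh.stalk ξ).map ι₂ ((EtCoh.stalk ξ).map π (gen ξ (U0 A) a)) := fun ξ a => by
    rw [Functor.map_comp, ConcreteCategory.comp_apply, toAbStalk_map, Functor.map_comp,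
      ConcreteCategory.comp_apply]
    rfl
  have ht : ∀ {Ω : Type u} [Field Ω] [IsSepClosed Ω] (ξ : Spec (CommRingCat.of Ω) ⟶ X)
      (a : (shStalk ξ).obj (U0 A)), toAbStalk ξ B ((shStalk ξ).map t a) = 0 := fun ξ a => by
    rw [toAbStalk_map, Functor.map_zero]
    rfl
  have hmgen : ∀ {Ω : Type u} [Field Ω] [IsSepClosed Ω] (ξ : Spec (CommRingCat.of Ω) ⟶ X)
      (x : (shStalk ξ).obj F), (EtCoh.stalk ξ).map m (gen ξ F x) = gen ξ (U0 A) ((shStalk ξ).map j x) :=
    fun ξ x => by
    apply (stalkEquiv ξ (U0 A)).injective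
    rw [stalkEquiv_freeMap, stalkEquiv_gen, Finsupp.mapDomain_single, stalkEquiv_gen]
  have h : j ≫ s = j ≫ t := by
    haveI : ∀ x : X, IsIso ((shStalk (acPoint x)).map (equalizer.ι (j ≫ s) (j ≫ t))) := fun x => by
      let Φ := shStalk (acPoint x)
      have e : Φ.map (j ≫ s) = Φ.map (j ≫ t) := by
        apply ConcreteCategory.hom_ext
        intro a
        apply (toAbStalk_bijective (acPoint x) B).1
        rw [Φ.map_comp_apply j s a, Φ.map_comp_apply j t a, hs, ht,
          ← hmgen, ← ConcreteCategory.comp_apply ((EtCoh.stalk _).map m), ← Functor.map_comp, cokernel.condition,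
          Functor.map_zero]
        exact map_zero ((EtCoh.stalk (acPoint x)).map ι₂).hom
      have hc := isLimitForkMapOfIsLimit Φ (equalizer.condition (j ≫ s) (j ≫ t))
        (equalizerIsEqualizer (j ≫ s) (j ≫ t))
      exact isIso_limit_cone_parallelPair_of_eq e hc
    haveI : IsIso (equalizer.ι (j ≫ s) (j ≫ t)) :=
      isIso_of_acPoints _ fun x => (isIso_iff_bijective _).1 (this x)
    exact (cancel_epi (equalizer.ι (j ≫ s) (j ≫ t))).1 (equalizer.condition _ _)
  let k : F ⟶ equalizer s t := equalizer.lift j h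
  have hk : IsIso k := by
    refine isIso_of_acPoints k fun x => ?_
    let ξ := acPoint x
    let Φ := shStalk ξ
    have hinj : Function.Injective (Φ.map j) := fun a b hab => by
      refine gen_injective ξ F (stalk_injective_of_mono ι₁ ξ ?_)
      have h1 := congrArg (toAbStalk ξ A) hab
      rw [Functor.map_comp, ConcreteCategory.comp_apply, ConcreteCategory.comp_apply, toAbStalk_map,
        toAbStalk_map] at h1
      exact h1
    have hkj : ∀ a, Φ.map (equalizer.ι s t) (Φ.map k a) = Φ.map j a := fun a => by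
      rw [← ConcreteCategory.comp_apply, ← Functor.map_comp, equalizer.lift_ι]
    refine ⟨fun a b hab => hinj (by rw [← hkj, hab, hkj]), fun z => ?_⟩
    let a := Φ.map (equalizer.ι s t) z
    have ha : (EtCoh.stalk ξ).map π (gen ξ (U0 A) a) = 0 := by
      refine stalk_injective_of_mono ι₂ ξ (Eq.trans ?_ (map_zero ((EtCoh.stalk ξ).map ι₂).hom).symm)
      rw [← hs, ← ht ξ a]
      refine congrArg (toAbStalk ξ B) ?_
      exact ConcreteCategory.congr_hom ((Φ.map_comp _ _).symm.trans
        ((congrArg Φ.map (equalizer.condition s t)).trans (Φ.map_comp _ _))) z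
    have hex : ((ShortComplex.mk m π (cokernel.condition m)).map (EtCoh.stalk ξ)).Exact :=
      (ShortComplex.exact_of_g_is_cokernel _ (cokernelIsCokernel m)).map (EtCoh.stalk ξ)
    obtain ⟨y, hy⟩ := (ShortComplex.ab_exact_iff _).1 hex _ ha
    have hy' : Finsupp.mapDomain (fun c => Φ.map j c) (stalkEquiv ξ F y) = Finsupp.single a (1 : ZMod 2) := by
      rw [← stalkEquiv_freeMap, ← stalkEquiv_gen]
      exact congrArg (stalkEquiv ξ (U0 A)) hy
    classical
    have hmem : a ∈ (Finsupp.mapDomain (fun c => Φ.map j c) (stalkEquiv ξ F y)).support := by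
      rw [hy', Finsupp.support_single_ne_zero _ one_ne_zero]
      exact Finset.mem_singleton_self a
    obtain ⟨x₀, -, hx₀⟩ := Finset.mem_image.1 (Finsupp.mapDomain_support hmem)
    refine ⟨x₀, ((mono_iff_injective (Φ.map (equalizer.ι s t))).1 inferInstance) ?_⟩
    rw [hkj, hx₀]
  exact ⟨A, B, j, s, t, h, hA, hB,
    ⟨(equalizerIsEqualizer s t).ofIsoLimit (Fork.ext (asIso k).symm (by simp [k]))⟩⟩

end presentation

end Groth.ZeroAcyclic.Free
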