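import Groth.Agent.EtaleShriek.BCForget
import Groth.Agent.EtaleDeep.Cons.Ab
import Groth.Agent.EtaleBase.LocConst
import Mathlib.Data.ZMod.Basic
import Mathlib.Algebra.BigOperators.Finsupp.Basic

/-!
The free `ZMod 2`-module sheaf on a sheaf of sets and its stalks.
-/

set_option autoImplicit false
set_option backward.isDefEq.respectTransparency.types false
set_option linter.style.haveILetI false

universe u

open CategoryTheory CategoryTheory.Limits AlgebraicGeometry Opposite

namespace Groth.ZeroAcyclic.Free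

open Groth.EtaleBase (germ germ_surjective germ_map)
open Groth.EtaleShriek.BCForget (U0 toAbStalk toAbStalk_germ)
open Groth.DescentBase (shStalk shGerm shGerm_surjective shGerm_map)

/-- Free `ZMod 2`-modules. -/
noncomputable def freeFun : Type (u + 1) ⥤ AddCommGrpCat.{u + 1} where
  obj M := AddCommGrpCat.of (M →₀ ZMod 2)
  map {M N} f := AddCommGrpCat.ofHom
    ((Finsupp.mapDomain.addMonoidHom fun a => f a : (M →₀ ZMod 2) →+ (N →₀ ZMod 2)))
  map_id M := AddCommGrpCat.hom_ext (AddMonoidHom.ext fun q => Finsupp.mapDomain_id)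
  map_comp {A B C} f g := AddCommGrpCat.hom_ext (AddMonoidHom.ext fun q => by
    show Finsupp.mapDomain ((fun b => g b) ∘ fun a => f a) q = _
    exact Finsupp.mapDomain_comp)

variable {X : Scheme.{u}}

/-- The presheaf of free modules. -/
noncomputable abbrev pre (F : EtDesc.Sh X) : X.Etaleᵒᵖ ⥤ AddCommGrpCat.{u + 1} := F.obj ⋙ freeFun

/-- The free `ZMod 2`-module sheaf. -/
noncomputable def free (F : EtDesc.Sh X) : EtCoh.Ab X :=
  (presheafToSheaf X.smallEtaleTopology AddCommGrpCat.{u + 1}).obj (pre F)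

/-- Functoriality. -/
noncomputable def freeMap {F G : EtDesc.Sh X} (φ : F ⟶ G) : free F ⟶ free G :=
  (presheafToSheaf X.smallEtaleTopology AddCommGrpCat.{u + 1}).map (Functor.whiskerRight φ.hom freeFun)

/-- The sections of the presheaf of free modules in the sheaf. -/
noncomputable def toFree (F : EtDesc.Sh X) (U : X.Etale) :
    (F.obj.obj (op U) →₀ ZMod 2) →+ (free F).obj.obj (op U) :=
  ((CategoryTheory.toSheafify X.smallEtaleTopology (pre F)).app (op U)).hom

lemma toFree_map (F : EtDesc.Sh X) {U V : X.Etale} (k : V ⟶ U) (q : F.obj.obj (op U) →₀ ZMod 2) :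
    (free F).obj.map k.op (toFree F U q) = toFree F V (Finsupp.mapDomain (fun a => F.obj.map k.op a) q) :=
  (NatTrans.naturality_apply (CategoryTheory.toSheafify X.smallEtaleTopology (pre F)) k.op q).symm

/-- The unit. -/
noncomputable def unit (F : EtDesc.Sh X) : F ⟶ U0 (free F) :=
  ⟨{ app := fun V => TypeCat.ofHom fun σ => toFree F V.unop (Finsupp.single σ 1)
     naturality := fun V W a => by
       ext σ
       refine Eq.trans ?_ (toFree_map F a.unop (Finsupp.single σ 1)).symm
       rw [Finsupp.mapDomain_single]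
       rfl }⟩

lemma unit_app (F : EtDesc.Sh X) (U : X.Etale) (σ : F.obj.obj (op U)) :
    (unit F).hom.app (op U) σ = toFree F U (Finsupp.single σ 1) := rfl

lemma freeMap_toFree {F G : EtDesc.Sh X} (φ : F ⟶ G) (U : X.Etale) (q : F.obj.obj (op U) →₀ ZMod 2) :
    (freeMap φ).hom.app (op U) (toFree F U q) = toFree G U (Finsupp.mapDomain (fun a => φ.hom.app (op U) a) q) := by
  have h := CategoryTheory.toSheafify_naturality X.smallEtaleTopology (Functor.whiskerRight φ.hom freeFun)
  exact (ConcreteCategory.congr_hom (congrArg (fun ν : pre F ⟶ _ => ν.app (op U)) h) q).symm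

section stalk

variable {Ω : Type u} [Field Ω] [IsSepClosed Ω] (ξ : Spec (CommRingCat.of Ω) ⟶ X) (F : EtDesc.Sh X)

/-- The generators of the stalk. -/
noncomputable def gen (x : (shStalk ξ).obj F) : (EtCoh.stalk ξ).obj (free F) :=
  toAbStalk ξ (free F) ((shStalk ξ).map (unit F) x)

lemma gen_germ (U : X.Etale) (t : (Scheme.pointSmallEtale ξ).fiber.obj U) (σ : F.obj.obj (op U)) :
    gen ξ F (shGerm ξ F U t σ) = germ ξ (free F) U t (toFree F U (Finsupp.single σ 1)) := by
  rw [gen, shGerm_map, toAbStalk_germ, unit_app]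

lemma gen_add_gen (x : (shStalk ξ).obj F) : gen ξ F x + gen ξ F x = 0 := by
  obtain ⟨U, t, σ, rfl⟩ := shGerm_surjective ξ F x
  rw [gen_germ, ← map_add, ← map_add, ← Finsupp.single_add, show (1 + 1 : ZMod 2) = 0 from rfl,
    Finsupp.single_zero, map_zero, map_zero]

/-- From formal sums to the stalk. -/
noncomputable def fromSum : ((shStalk ξ).obj F →₀ ZMod 2) →+ (EtCoh.stalk ξ).obj (free F) :=
  Finsupp.liftAddHom fun x => ZMod.lift 2 ⟨zmultiplesHom _ (gen ξ F x), by
    simp [two_zsmul, gen_add_gen]⟩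

lemma fromSum_single (x : (shStalk ξ).obj F) : fromSum ξ F (Finsupp.single x 1) = gen ξ F x := by
  rw [fromSum, Finsupp.liftAddHom_apply_single, show (1 : ZMod 2) = ((1 : ℤ) : ZMod 2) from rfl,
    ZMod.lift_coe]
  simp

lemma fromSum_mapDomain (U : X.Etale) (t : (Scheme.pointSmallEtale ξ).fiber.obj U)
    (q : F.obj.obj (op U) →₀ ZMod 2) :
    fromSum ξ F (Finsupp.mapDomain (fun a => shGerm ξ F U t a) q) = germ ξ (free F) U t (toFree F U q) := by
  induction q using Finsupp.induction_linear with
  | zero => simp only [Finsupp.mapDomain_zero, map_zero]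
  | add a b ha hb => rw [Finsupp.mapDomain_add, map_add, map_add, map_add, ha, hb]
  | single σ c =>
      obtain ⟨k, rfl⟩ := ZMod.intCast_surjective c
      rw [Finsupp.mapDomain_single, ← zsmul_one k, ← Finsupp.smul_single, ← Finsupp.smul_single, map_zsmul,
        map_zsmul, map_zsmul, fromSum_single, gen_germ]

/-- From the fibre of the presheaf to formal sums. -/
noncomputable def preToSum : (Scheme.pointSmallEtale ξ).presheafFiber.obj (pre F) ⟶
    AddCommGrpCat.of ((shStalk ξ).obj F →₀ ZMod 2) :=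
  (Scheme.pointSmallEtale ξ).presheafFiberDesc (P := pre F)
    (fun U t => AddCommGrpCat.ofHom (Finsupp.mapDomain.addMonoidHom fun a => shGerm ξ F U t a))
    (fun {U V} g t => AddCommGrpCat.hom_ext (AddMonoidHom.ext fun q => by
      show Finsupp.mapDomain _ (Finsupp.mapDomain _ q) = Finsupp.mapDomain _ q
      rw [← Finsupp.mapDomain_comp]
      exact congrArg (fun k => Finsupp.mapDomain k q)
        (funext fun a => (Scheme.pointSmallEtale ξ).toPresheafFiber_w_apply g t F.obj a)))

instance isIso_fiber_toSheafify :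
    IsIso ((Scheme.pointSmallEtale ξ).presheafFiber.map (CategoryTheory.toSheafify X.smallEtaleTopology (pre F))) :=
  (Scheme.pointSmallEtale ξ).W_isInvertedBy_presheafFiber' _ (X.smallEtaleTopology.W_toSheafify _)

/-- From the stalk to formal sums. -/
noncomputable def toSum : (EtCoh.stalk ξ).obj (free F) ⟶ AddCommGrpCat.of ((shStalk ξ).obj F →₀ ZMod 2) :=
  (@asIso _ _ _ _ ((Scheme.pointSmallEtale ξ).presheafFiber.map
    (CategoryTheory.toSheafify X.smallEtaleTopology (pre F))) (isIso_fiber_toSheafify ξ F)).inv ≫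
    preToSum ξ F

lemma toSum_germ (U : X.Etale) (t : (Scheme.pointSmallEtale ξ).fiber.obj U)
    (q : F.obj.obj (op U) →₀ ZMod 2) :
    toSum ξ F (germ ξ (free F) U t (toFree F U q)) = Finsupp.mapDomain (fun a => shGerm ξ F U t a) q := by
  let η : pre F ⟶ (free F).obj := CategoryTheory.toSheafify X.smallEtaleTopology (pre F)
  have h : (Scheme.pointSmallEtale ξ).toPresheafFiber U t (pre F) ≫ (Scheme.pointSmallEtale ξ).presheafFiber.map η =
      η.app (op U) ≫ (Scheme.pointSmallEtale ξ).toPresheafFiber U t (free F).obj :=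
    (Scheme.pointSmallEtale ξ).toPresheafFiber_naturality η U t
  have h₂ : η.app (op U) ≫ (Scheme.pointSmallEtale ξ).toPresheafFiber U t (free F).obj ≫ toSum ξ F =
      AddCommGrpCat.ofHom (Finsupp.mapDomain.addMonoidHom fun a => shGerm ξ F U t a) := by
    rw [← Category.assoc, ← h, toSum, Category.assoc]
    refine (congrArg (_ ≫ ·) ((@asIso _ _ _ _ ((Scheme.pointSmallEtale ξ).presheafFiber.map
      (CategoryTheory.toSheafify X.smallEtaleTopology (pre F))) (isIso_fiber_toSheafify ξ F)).hom_inv_id_assoc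
        (preToSum ξ F))).trans ?_
    exact (Scheme.pointSmallEtale ξ).toPresheafFiber_presheafFiberDesc (P := pre F)
      (fun U t => AddCommGrpCat.ofHom (Finsupp.mapDomain.addMonoidHom fun a => shGerm ξ F U t a)) _ U t
  exact ConcreteCategory.congr_hom h₂ q

lemma exists_germ_toFree (z : (EtCoh.stalk ξ).obj (free F)) :
    ∃ (U : X.Etale) (t : (Scheme.pointSmallEtale ξ).fiber.obj U) (q : F.obj.obj (op U) →₀ ZMod 2),
      germ ξ (free F) U t (toFree F U q) = z := by
  let η := CategoryTheory.toSheafify X.smallEtaleTopology (pre F)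
  obtain ⟨y, rfl⟩ := ((ConcreteCategory.isIso_iff_bijective
    ((Scheme.pointSmallEtale ξ).presheafFiber.map η)).1 (isIso_fiber_toSheafify ξ F)).2 z
  obtain ⟨U, t, q, rfl⟩ := (Scheme.pointSmallEtale ξ).toPresheafFiber_jointly_surjective (P := pre F) y
  exact ⟨U, t, q, ((Scheme.pointSmallEtale ξ).toPresheafFiber_naturality_apply η U t q).symm⟩

lemma fromSum_toSum (z : (EtCoh.stalk ξ).obj (free F)) : fromSum ξ F (toSum ξ F z) = z := by
  obtain ⟨U, t, q, rfl⟩ := exists_germ_toFree ξ F z
  rw [toSum_germ, fromSum_mapDomain]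

lemma toSum_gen (x : (shStalk ξ).obj F) : toSum ξ F (gen ξ F x) = Finsupp.single x 1 := by
  obtain ⟨U, t, σ, rfl⟩ := shGerm_surjective ξ F x
  rw [gen_germ, toSum_germ, Finsupp.mapDomain_single]

lemma toSum_fromSum (q : (shStalk ξ).obj F →₀ ZMod 2) : toSum ξ F (fromSum ξ F q) = q := by
  induction q using Finsupp.induction_linear with
  | zero => simp only [map_zero]
  | add a b ha hb =>
      rw [map_add]
      exact (map_add (toSum ξ F).hom _ _).trans (congrArg₂ (· + ·) ha hb)
  | single x c =>
      obtain ⟨k, rfl⟩ := ZMod.intCast_surjective c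
      rw [← zsmul_one k, ← Finsupp.smul_single, map_zsmul, fromSum_single]
      exact (map_zsmul (toSum ξ F).hom k _).trans (congrArg (k • ·) (toSum_gen ξ F x))

/-- **The stalk of the free module sheaf.** -/
noncomputable def stalkEquiv : (EtCoh.stalk ξ).obj (free F) ≃+ ((shStalk ξ).obj F →₀ ZMod 2) where
  toFun := toSum ξ F
  invFun := fromSum ξ F
  left_inv := fromSum_toSum ξ F
  right_inv := toSum_fromSum ξ F
  map_add' a b := map_add (toSum ξ F).hom a b

lemma stalkEquiv_gen (x : (shStalk ξ).obj F) : stalkEquiv ξ F (gen ξ F x) = Finsupp.single x 1 :=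
  toSum_gen ξ F x

lemma gen_injective : Function.Injective (gen ξ F) := fun a b h =>
  Finsupp.single_left_injective (one_ne_zero : (1 : ZMod 2) ≠ 0)
    ((stalkEquiv_gen ξ F a).symm.trans ((congrArg (stalkEquiv ξ F) h).trans (stalkEquiv_gen ξ F b)))

variable {F} {G : EtDesc.Sh X} (φ : F ⟶ G)

lemma stalkEquiv_freeMap (z : (EtCoh.stalk ξ).obj (free F)) :
    stalkEquiv ξ G ((EtCoh.stalk ξ).map (freeMap φ) z) =
      Finsupp.mapDomain (fun a => (shStalk ξ).map φ a) (stalkEquiv ξ F z) := by
  obtain ⟨U, t, q, rfl⟩ := exists_germ_toFree ξ F z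
  rw [germ_map, freeMap_toFree]
  refine (toSum_germ ξ G U t _).trans (Eq.trans ?_ (congrArg _ (toSum_germ ξ F U t q)).symm)
  rw [← Finsupp.mapDomain_comp, ← Finsupp.mapDomain_comp]
  exact congrArg (fun k => Finsupp.mapDomain k q) (funext fun a => (shGerm_map ξ φ U t a).symm)

end stalk

end Groth.ZeroAcyclic.Free
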