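import Groth.Agent.ZeroAcyclic.Constructible.Free
import Groth.Agent.ZeroAcyclic.Proper.ConstBasis
import Groth.Agent.EtaleDeep.Cons.Ab
import Groth.Prelude.Def_CohProp

/-!
Constructibility of free module sheaves on constructible sheaves of sets.
-/

set_option autoImplicit false
set_option backward.isDefEq.respectTransparency.types false
set_option linter.style.haveILetI false

universe u

open CategoryTheory CategoryTheory.Limits AlgebraicGeometry Opposite

namespace Groth.ZeroAcyclic.Free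

open Groth.EtaleBase (germ germ_map fiberPoint exists_fiber_lift stalkPullIso)
open Groth.EtaleBase.LocConst (StalkBij isFLC_iff)
open Groth.EtaleShriek.BCForget (U0 toAbStalk toAbStalk_germ toAbStalk_bijective cmp toAbStalk_cmp)
open Groth.DescentBase (shStalk shStalkPullIso shGerm shGerm_surjective shGerm_map shGerm_eq_iff
  shSection_ext shGerm_eq_iff_mem)

variable {X : Scheme.{u}}

/-- Sections over `U` giving all stalks at points over `U` without repetition. -/
def SBij (G : EtDesc.Sh X) (U : X.Etale) {M : Type*} (s : M → G.obj.obj (op U)) : Prop :=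
  ∀ (Ω : Type u) (_ : Field Ω) (_ : IsSepClosed Ω) (ξ : Spec (CommRingCat.of Ω) ⟶ X)
    (t : (Scheme.pointSmallEtale ξ).fiber.obj U), Function.Bijective fun a => shGerm ξ G U t (s a)

/-- Finitely many sections give the stalks, étale locally. -/
def SLC (G : EtDesc.Sh X) : Prop :=
  ∀ x : X, ∃ (U : X.Etale) (_ : ∃ y, U.hom.base y = x) (n : ℕ) (s : Fin n → G.obj.obj (op U)), SBij G U s

/-- A germ at a point over `U` is the germ of a section over an étale neighbourhood refining `U`. -/
lemma exists_rep_over {Ω : Type u} [Field Ω] [IsSepClosed Ω] (ξ : Spec (CommRingCat.of Ω) ⟶ X)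
    (F : EtDesc.Sh X) (U : X.Etale) (t : (Scheme.pointSmallEtale ξ).fiber.obj U) (a : (shStalk ξ).obj F) :
    ∃ (W : X.Etale) (g : W ⟶ U) (w : (Scheme.pointSmallEtale ξ).fiber.obj W) (σ : F.obj.obj (op W)),
      (Scheme.pointSmallEtale ξ).fiber.map g w = t ∧ shGerm ξ F W w σ = a := by
  obtain ⟨V, s, τ, rfl⟩ := shGerm_surjective ξ F a
  let Φ := Scheme.pointSmallEtale ξ
  obtain ⟨W₀, pm, qm, -⟩ := IsCofilteredOrEmpty.cone_objs (C := Φ.fiber.Elements)
    (Functor.elementsMk _ V s) (Functor.elementsMk _ U t)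
  obtain ⟨W, w⟩ := W₀
  let p : W ⟶ V := pm.1
  refine ⟨W, qm.1, w, F.obj.map p.op τ, qm.2, ?_⟩
  have hp : Φ.fiber.map p w = s := pm.2
  refine (Φ.toPresheafFiber_w_apply p w F.obj τ).trans ?_
  exact congrArg (fun z => shGerm ξ F V z τ) hp

/-- Finite locally constant sheaves of sets have local bases. -/
theorem slc_of_isFinLocConstSet {G : EtDesc.Sh X} (h : CohProp.IsFinLocConstSet G) : SLC G := by
  obtain ⟨ι, U, hU, hi⟩ := h
  intro x
  obtain ⟨i, y, hy⟩ := hU x
  obtain ⟨M, hM, ⟨e⟩⟩ := hi i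
  let C := CohProp.constSh X M
  let e₀ : ULift.{u} (Fin (Nat.card M)) ≃ M := Equiv.ulift.trans (Finite.equivFin M).symm
  let c : Fin (Nat.card M) → C.obj.obj (op (U i)) := fun a =>
    C.obj.map (toTop (U i)).op (constC X e₀ (ULift.up a))
  have hc : SBij C (U i) c := fun Ω _ _ ξ t => by
    have h0 : Function.Bijective fun a : Fin (Nat.card M) =>
        Groth.EtaleShriek.BCSets.sg C ξ (EtCoh.top X) ξ (Category.comp_id _) (constC X e₀ (ULift.up a)) :=
      (constBasis_constSh X e₀ Ω ξ).comp Equiv.ulift.symm.bijective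
    refine (congrArg Function.Bijective (funext fun a => ?_)).mpr h0
    exact sg_toTop (G := C) (c := constC X e₀) (U i) (ULift.up a) ξ t.left (Over.w t)
  let top : Over (U i) := Over.mk (𝟙 (U i))
  let s : Fin (Nat.card M) → G.obj.obj (op (U i)) := fun a => e.inv.hom.app (op top) (c a)
  refine ⟨U i, ⟨y, hy⟩, _, s, fun Ω _ _ ξ t => ?_⟩
  have hnat : ∀ (W : X.Etale) (g : W ⟶ U i) (a : Fin (Nat.card M)),
      e.inv.hom.app (op (Over.mk g)) (C.obj.map g.op (c a)) = G.obj.map g.op (s a) := fun W g a =>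
    NatTrans.naturality_apply e.inv.hom (Over.homMk g (Category.comp_id _) : Over.mk g ⟶ top).op (c a)
  have hinv : ∀ (W : X.Etale) (g : W ⟶ U i) (σ : C.obj.obj (op W)),
      e.hom.hom.app (op (Over.mk g)) (e.inv.hom.app (op (Over.mk g)) σ) = σ := fun W g σ =>
    ConcreteCategory.congr_hom (congrArg (fun ν : C.over (U i) ⟶ C.over (U i) => ν.hom.app (op (Over.mk g)))
      e.inv_hom_id) σ
  have hinv' : ∀ (W : X.Etale) (g : W ⟶ U i) (σ : G.obj.obj (op W)),
      e.inv.hom.app (op (Over.mk g)) (e.hom.hom.app (op (Over.mk g)) σ) = σ := fun W g σ =>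
    ConcreteCategory.congr_hom (congrArg (fun ν : G.over (U i) ⟶ G.over (U i) => ν.hom.app (op (Over.mk g)))
      e.hom_inv_id) σ
  constructor
  · intro a b hab
    obtain ⟨W, g, w, hw, he⟩ := (shGerm_eq_iff ξ G (U i) t _ _).1 hab
    have h1 : C.obj.map g.op (c a) = C.obj.map g.op (c b) := by
      rw [← hinv W g (C.obj.map g.op (c a)), ← hinv W g (C.obj.map g.op (c b)), hnat, hnat, he]
    exact (hc Ω _ _ ξ t).1 ((shGerm_eq_iff ξ C (U i) t _ _).2 ⟨W, g, w, hw, h1⟩)
  · intro z
    obtain ⟨W, g, w, σ, hw, rfl⟩ := exists_rep_over ξ G (U i) t z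
    subst hw
    obtain ⟨a, ha⟩ := (hc Ω _ _ ξ ((Scheme.pointSmallEtale ξ).fiber.map g w)).2
      (shGerm ξ C W w (e.hom.hom.app (op (Over.mk g)) σ))
    replace ha := ((Scheme.pointSmallEtale ξ).toPresheafFiber_w_apply g w C.obj (c a)).trans ha
    obtain ⟨V, k, v, hv, he⟩ := (shGerm_eq_iff ξ C W w _ _).1 ha
    refine ⟨a, ((Scheme.pointSmallEtale ξ).toPresheafFiber_w_apply g w G.obj (s a)).symm.trans ?_⟩
    refine (shGerm_eq_iff ξ G W w _ _).2 ⟨V, k, v, hv, ?_⟩
    have h2 := congrArg (e.inv.hom.app (op (Over.mk (k ≫ g)))) he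
    have n₁ := NatTrans.naturality_apply e.inv.hom (Over.homMk k : Over.mk (k ≫ g) ⟶ Over.mk g).op
      (C.obj.map g.op (c a))
    have n₂ := NatTrans.naturality_apply e.inv.hom (Over.homMk k : Over.mk (k ≫ g) ⟶ Over.mk g).op
      (e.hom.hom.app (op (Over.mk g)) σ)
    rw [← hnat W g a, ← hinv' W g σ]
    exact n₁.symm.trans (h2.trans n₂)

section pull

variable {T : Scheme.{u}} (g : T ⟶ X)

/-- Local bases of the inverse image of the underlying sheaf of a module sheaf. -/
theorem slc_pull_U0 {A : EtCoh.Ab X} (h : EtCoh.IsFiniteLocallyConstant ((EtCoh.pull g).obj A)) :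
    SLC ((EtDesc.pullSh g).obj (U0 A)) := fun x => by
  obtain ⟨U, hU, M, _, hM, s, hs⟩ := isFLC_iff.1 h x
  let e₀ : Fin (Nat.card M) ≃ ULift.{u + 1} M := (Finite.equivFin M).symm.trans Equiv.ulift.symm
  let c := cmp g A
  have hsur : Function.Surjective (c.hom.app (op U)) :=
    ((isIso_iff_bijective (c.hom.app (op U))).1
      (inferInstanceAs (IsIso (((sheafToPresheaf _ _).mapIso (asIso c)).app (op U)).hom))).2
  choose l hl using fun a => hsur (s (e₀ a))
  refine ⟨U, hU, _, l, fun Ω _ _ ξ t => ?_⟩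
  have hb : Function.Bijective fun z => toAbStalk ξ ((EtCoh.pull g).obj A) ((shStalk ξ).map c z) :=
    (toAbStalk_bijective ξ _).comp ((isIso_iff_bijective ((shStalk ξ).map c)).1 inferInstance)
  refine (Function.Bijective.of_comp_iff' hb _).1 ?_
  refine (congrArg Function.Bijective (funext fun a => ?_)).mpr ((hs Ω _ _ ξ t).comp e₀.bijective)
  show toAbStalk ξ _ ((shStalk ξ).map c (shGerm ξ _ U t (l a))) = _
  rw [shGerm_map, hl]
  exact toAbStalk_germ ξ _ U t _

/-- The map to the inverse image of the free module sheaf. -/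
noncomputable def toPullFree (F : EtDesc.Sh X) :
    (EtDesc.pullSh g).obj F ⟶ U0 ((EtCoh.pull g).obj (free F)) :=
  (EtDesc.pullSh g).map (unit F) ≫ cmp g (free F)

lemma toPullFree_germ (F : EtDesc.Sh X) {Ω : Type u} [Field Ω] [IsSepClosed Ω]
    (ξ : Spec (CommRingCat.of Ω) ⟶ T) (U : T.Etale) (t : (Scheme.pointSmallEtale ξ).fiber.obj U)
    (σ : ((EtDesc.pullSh g).obj F).obj.obj (op U)) (x : (shStalk (ξ ≫ g)).obj F)
    (hx : (shStalkPullIso g ξ).hom.app F x = shGerm ξ _ U t σ) :
    germ ξ ((EtCoh.pull g).obj (free F)) U t ((toPullFree g F).hom.app (op U) σ) =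
      (stalkPullIso g ξ).hom.app (free F) (gen (ξ ≫ g) F x) := by
  rw [← toAbStalk_germ, ← shGerm_map, ← hx, toPullFree, Functor.map_comp, ConcreteCategory.comp_apply, gen,
    ← toAbStalk_cmp]
  refine congrArg (fun z => toAbStalk ξ _ ((shStalk ξ).map (cmp g (free F)) z)) ?_
  exact (NatTrans.naturality_apply (shStalkPullIso g ξ).hom (unit F) x).symm

/-- The inverse image of a free module sheaf is finite locally constant where the sheaf of sets has local
bases. -/
theorem isFLC_pull_free {F : EtDesc.Sh X} (h : SLC ((EtDesc.pullSh g).obj F)) :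
    EtCoh.IsFiniteLocallyConstant ((EtCoh.pull g).obj (free F)) := by
  classical
  refine isFLC_iff.2 fun x => ?_
  obtain ⟨U, hU, n, s, hs⟩ := h x
  let A := (EtCoh.pull g).obj (free F)
  let σ : Fin n → A.obj.obj (op U) := fun a => (toPullFree g F).hom.app (op U) (s a)
  have hbij : ∀ (Ω : Type u) [Field Ω] [IsSepClosed Ω] (ξ : Spec (CommRingCat.of Ω) ⟶ T),
      Function.Bijective ((shStalkPullIso g ξ).hom.app F) := fun Ω _ _ ξ => (isIso_iff_bijective _).1 inferInstance
  have hval : ∀ (Ω : Type u) [Field Ω] [IsSepClosed Ω] (ξ : Spec (CommRingCat.of Ω) ⟶ T)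
      (t : (Scheme.pointSmallEtale ξ).fiber.obj U), ∃ x : Fin n → (shStalk (ξ ≫ g)).obj F, Function.Bijective x ∧
        ∀ a, germ ξ A U t (σ a) = (stalkPullIso g ξ).hom.app (free F) (gen (ξ ≫ g) F (x a)) :=
    fun Ω _ _ ξ t => by
      let e := Equiv.ofBijective _ (hbij Ω ξ)
      exact ⟨fun a => e.symm (shGerm ξ _ U t (s a)), e.symm.bijective.comp (hs Ω _ _ ξ t),
        fun a => toPullFree_germ g F ξ U t (s a) _ (e.apply_symm_apply _)⟩
  have h2 : ∀ a, σ a + σ a = 0 := fun a => by
    refine Groth.EtaleBase.section_eq_zero_of_germs A U _ fun v => ?_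
    obtain ⟨t, ht⟩ := Groth.EtaleBase.exists_geomPoint_lift U v
    obtain ⟨x, -, hx⟩ := hval _ _ t
    obtain ⟨V, k, w, hw, hz⟩ := (Groth.EtaleBase.germ_eq_zero_iff _ A U t (σ a + σ a)).1 (by
      rw [map_add, hx a, ← map_add, gen_add_gen, map_zero])
    refine ⟨V, k, ⟨fiberPoint _ w, ?_⟩, hz⟩
    refine Eq.trans ?_ ht
    subst hw
    exact (Groth.EtaleBase.fiberPoint_map _ k w).symm
  let S₀ : (Fin n →₀ ZMod 2) →+ A.obj.obj (op U) :=
    Finsupp.liftAddHom fun a => ZMod.lift 2 ⟨zmultiplesHom _ (σ a), by simp [two_zsmul, h2]⟩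
  refine ⟨U, hU, (Fin n →₀ ZMod 2), inferInstance, inferInstance,
    S₀.comp AddEquiv.ulift.toAddMonoidHom, fun Ω _ _ ξ t => ?_⟩
  obtain ⟨x, hxb, hx⟩ := hval Ω ξ t
  let ex := Equiv.ofBijective x hxb
  have key : ∀ q, germ ξ A U t (S₀ q) =
      (stalkPullIso g ξ).hom.app (free F) ((stalkEquiv (ξ ≫ g) F).symm (Finsupp.mapDomain x q)) := by
    intro q
    induction q using Finsupp.induction_linear with
    | zero => simp only [Finsupp.mapDomain_zero, map_zero]
    | add a b ha hb => rw [map_add, map_add, ha, hb, Finsupp.mapDomain_add, map_add, map_add]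
    | single a c =>
        obtain ⟨k, rfl⟩ := ZMod.intCast_surjective c
        have h1 : S₀ (Finsupp.single a 1) = σ a := by
          rw [Finsupp.liftAddHom_apply_single, show (1 : ZMod 2) = ((1 : ℤ) : ZMod 2) from rfl, ZMod.lift_coe]
          simp
        have h3 : (stalkEquiv (ξ ≫ g) F).symm (Finsupp.single (x a) 1) = gen (ξ ≫ g) F (x a) := by
          rw [← stalkEquiv_gen, AddEquiv.symm_apply_apply]
        rw [← zsmul_one k, ← Finsupp.smul_single, map_zsmul, map_zsmul, h1, hx, Finsupp.mapDomain_smul,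
          Finsupp.mapDomain_single, map_zsmul, map_zsmul, h3]
  refine (congrArg Function.Bijective (funext fun (q : ULift.{u + 1} (Fin n →₀ ZMod 2)) => key q.down)).mpr ?_
  exact (((ConcreteCategory.isIso_iff_bijective ((stalkPullIso g ξ).hom.app (free F))).1 inferInstance).comp
    (stalkEquiv (ξ ≫ g) F).symm.bijective).comp (((congrArg Function.Bijective (funext fun q =>
      (Finsupp.equivMapDomain_eq_mapDomain (M := ZMod 2) ex q).symm)).mpr
        (Finsupp.domCongr (M := ZMod 2) ex).bijective).comp Equiv.ulift.bijective)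

end pull

open Groth.EtaleDeep.Cons (IsCons isConstructible_iff)

/-- Local bases along a stratum. -/
def SLCOn (F : EtDesc.Sh X) : ∀ ⦃T : Scheme.{u}⦄, (T ⟶ X) → Prop :=
  fun _ g => SLC ((EtDesc.pullSh g).obj F)

theorem isCons_of_isConstructibleSet {F : EtDesc.Sh X} (h : CohProp.IsConstructibleSet F) :
    IsCons (SLCOn F) :=
  (show IsCons (fun T (g : T ⟶ X) => CohProp.IsFinLocConstSet ((EtDesc.pullSh g).obj F)) from h).mono
    fun _ _ hg => slc_of_isFinLocConstSet hg

theorem isCons_U0 {A : EtCoh.Ab X} (h : EtPBC.IsConstructible A) : IsCons (SLCOn (U0 A)) :=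
  ((isConstructible_iff A).1 h).mono fun _ g hg => slc_pull_U0 g hg

/-- The free module sheaf on a constructible sheaf of sets is constructible. -/
theorem isConstructible_free {F : EtDesc.Sh X} (h : IsCons (SLCOn F)) : EtPBC.IsConstructible (free F) :=
  (isConstructible_iff _).2 (h.mono fun _ g hg => by intro _; exact isFLC_pull_free g hg)

end Groth.ZeroAcyclic.Free
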